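import Mathlib
import Groth.Prelude.Def_Found
import Groth.Agent.S2363
import Groth.Agent.AdicLim.Noetherian

/-!
# Existence of Cohen rings
-/

universe u

namespace Groth.Agent.CohenStruct

open IsLocalRing

/-- A Noetherian local ring whose maximal ideal is generated by a non-zero-divisor is a discrete
valuation ring. -/
theorem isDomain_and_dvr_of_span_eq {A : Type u} [CommRing A] [IsLocalRing A] [IsNoetherianRing A]
    (p : A) (hp : p ∈ nonZeroDivisors A) (hmax : maximalIdeal A = Ideal.span {p}) :
    ∃ (_ : IsDomain A), IsDiscreteValuationRing A := by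
  have hdecomp : ∀ x : A, x ≠ 0 → ∃ (n : ℕ) (u : A), IsUnit u ∧ x = u * p ^ n := by
    intro x hx
    by_contra hne
    push Not at hne
    have hall : ∀ n : ℕ, ∃ a, x = a * p ^ n := by
      intro n
      induction n with
      | zero => exact ⟨x, by simp⟩
      | succ n ih =>
        obtain ⟨a, ha⟩ := ih
        have : a ∈ maximalIdeal A := fun h => hne n a h ha
        rw [hmax, Ideal.mem_span_singleton'] at this
        obtain ⟨b, rfl⟩ := this
        exact ⟨b, by rw [ha, pow_succ]; ring⟩
    apply hx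
    have h0 := Ideal.iInf_pow_eq_bot_of_isLocalRing (maximalIdeal A) (maximalIdeal.isMaximal A).ne_top
    rw [← Ideal.mem_bot, ← h0, Submodule.mem_iInf]
    intro n
    obtain ⟨a, rfl⟩ := hall n
    rw [hmax, Ideal.span_singleton_pow]
    exact Ideal.mem_span_singleton'.mpr ⟨a, rfl⟩
  have hdom : IsDomain A := by
    have : NoZeroDivisors A := ⟨fun {a b} hab => by
      by_contra h
      push Not at h
      obtain ⟨n, u, hu, rfl⟩ := hdecomp a h.1
      obtain ⟨k, v, hv, rfl⟩ := hdecomp b h.2
      have h2 : u * v * p ^ (n + k) = 0 := by rw [← hab]; ring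
      exact (hu.mul hv).ne_zero ((mul_right_mem_nonZeroDivisors_eq_zero_iff (pow_mem hp _)).mp h2)⟩
    exact NoZeroDivisors.to_isDomain A
  refine ⟨hdom, ?_⟩
  have hp0 : p ≠ 0 := nonZeroDivisors.ne_zero hp
  have : IsPrincipalIdealRing A :=
    ((tfae_of_isNoetherianRing_of_isLocalRing_of_isDomain A).out 4 0).mp
      (show (maximalIdeal A).IsPrincipal from ⟨⟨p, hmax⟩⟩)
  have hne : maximalIdeal A ≠ ⊥ := by
    rw [hmax, Ne, Ideal.span_singleton_eq_bot]; exact hp0
  exact ⟨hne⟩

/-- The prime field, lifted. -/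
theorem exists_localInt (p : ℕ) [Fact p.Prime] (k : Type u) [Field k] [CharP k p] :
    ∃ (A : Type u) (_ : CommRing A) (_ : IsDomain A) (_ : IsLocalRing A) (_ : IsNoetherianRing A)
      (_ : A →+* k),
      (p : A) ≠ 0 ∧ maximalIdeal A = Ideal.span {(p : A)} := by
  let Z := ULift.{u} ℤ
  let e : Z ≃+* ℤ := ULift.ringEquiv
  have hpZ : Prime ((p : ℕ) : Z) := by
    have h1 : Prime (p : ℤ) := Nat.prime_iff_prime_int.mp Fact.out
    have := (MulEquiv.prime_iff e.symm.toMulEquiv).mpr h1
    simpa using this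
  let P : Ideal Z := Ideal.span {((p : ℕ) : Z)}
  have : P.IsPrime := (Ideal.span_singleton_prime hpZ.ne_zero).mpr hpZ
  have : IsNoetherianRing Z := isNoetherianRing_of_ringEquiv ℤ e.symm
  have : IsDomain Z := e.isDomain
  have hunit : ∀ y : P.primeCompl, IsUnit (((Int.castRingHom k).comp e.toRingHom) y) := by
    rintro ⟨y, hy⟩
    rw [isUnit_iff_ne_zero]
    intro h
    have h' : ((e y : ℤ) : k) = 0 := h
    rw [CharP.intCast_eq_zero_iff k p] at h'
    refine hy (Ideal.mem_span_singleton.mpr ?_)
    obtain ⟨c, hc⟩ := h'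
    exact ⟨e.symm c, e.injective (by rw [hc, map_mul, map_natCast, RingEquiv.apply_symm_apply])⟩
  refine ⟨Localization.AtPrime P, inferInstance, inferInstance, inferInstance,
    IsLocalization.isNoetherianRing P.primeCompl _ inferInstance,
    IsLocalization.lift (M := P.primeCompl) hunit, ?_, ?_⟩
  · rw [← map_natCast (algebraMap Z (Localization.AtPrime P))]
    exact (map_ne_zero_iff _ (IsLocalization.injective _ P.primeCompl_le_nonZeroDivisors)).mpr
      hpZ.ne_zero
  · rw [← Localization.AtPrime.map_eq_maximalIdeal, Ideal.map_span, Set.image_singleton, map_natCast]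

/-- **Existence of Cohen rings.** -/
theorem exists_cohenRing (p : ℕ) [hp : Fact p.Prime] (k : Type u) [Field k] [CharP k p] :
    ∃ (Λ : Type u) (_ : CommRing Λ) (_ : IsLocalRing Λ) (_ : IsDomain Λ),
      CAlg.IsCohenRing Λ ∧ maximalIdeal Λ = Ideal.span {(p : Λ)} ∧
        Nonempty (ResidueField Λ ≃+* k) := by
  obtain ⟨A, _, _, _, _, f, hp0, hmaxA⟩ := exists_localInt p k
  have hker : ∀ a ∈ maximalIdeal A, f a = 0 := by
    intro a ha
    rw [hmaxA, Ideal.mem_span_singleton'] at ha
    obtain ⟨b, rfl⟩ := ha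
    rw [map_mul, map_natCast, CharP.cast_eq_zero, mul_zero]
  let κ : ResidueField A →+* k := Ideal.Quotient.lift _ f hker
  let : Algebra (ResidueField A) k := κ.toAlgebra
  obtain ⟨B, _, _, hBN, hBL, _, hflat, e, -⟩ := Groth.Agent.S2363.result (A := A) k
  have hM : ((maximalIdeal A).map (algebraMap A B)).IsMaximal :=
    Ideal.Quotient.maximal_of_isField _ (MulEquiv.isField (Field.toIsField k) e.toMulEquiv)
  have hMB : maximalIdeal B = Ideal.span {(p : B)} := by
    rw [← eq_maximalIdeal hM, hmaxA, Ideal.map_span, Set.image_singleton, map_natCast]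
  have hpB : (p : B) ∈ nonZeroDivisors B := by
    have h2 : IsSMulRegular B (p : A) :=
      Module.Flat.isSMulRegular_of_isRegular (IsRegular.of_ne_zero hp0)
    rw [mem_nonZeroDivisors_iff_right]
    intro a ha
    apply h2
    simpa [Algebra.smul_def, mul_comm] using ha
  let Λ := AdicCompletion (maximalIdeal B) B
  have hΛmax : maximalIdeal Λ = Ideal.span {(p : Λ)} := by
    refine AdicCompletion.maximalIdeal_eq_map.trans ?_
    refine (congrArg (Ideal.map (algebraMap B Λ)) hMB).trans ?_
    rw [Ideal.map_span, Set.image_singleton, map_natCast]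
  have hpΛ : (p : Λ) ∈ nonZeroDivisors Λ := by
    rw [mem_nonZeroDivisors_iff_right]
    intro a ha
    have h2 : IsSMulRegular Λ (p : B) :=
      Module.Flat.isSMulRegular_of_isRegular (isRegular_iff_mem_nonZeroDivisors.mpr hpB)
    apply h2
    simpa [Algebra.smul_def, mul_comm] using ha
  have : IsNoetherianRing Λ := by
    have hfg : (maximalIdeal Λ).FG := hΛmax ▸ Submodule.fg_span_singleton _
    have : IsNoetherianRing (Λ ⧸ maximalIdeal Λ) := by
      let := Ideal.Quotient.field (maximalIdeal Λ)
      infer_instance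
    exact AdicLim.isNoetherianRing_of_isAdicComplete hfg
  obtain ⟨hdom, hdvr⟩ := isDomain_and_dvr_of_span_eq (p : Λ) hpΛ hΛmax
  refine ⟨Λ, inferInstance, inferInstance, hdom, ⟨hdom, hdvr, inferInstance, p, hp.out, hΛmax⟩,
    hΛmax, ?_⟩
  refine ⟨(RingEquiv.ofBijective _ (AdicCompletion.residueField_map_bijective B)).symm.trans ?_⟩
  exact (Ideal.quotEquivOfEq (show maximalIdeal B = (maximalIdeal A).map (algebraMap A B) from
    (eq_maximalIdeal hM).symm)).trans e

end Groth.Agent.CohenStruct
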