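import Groth.Agent.EGA41Lib.FormallySmooth
import Groth.Agent.EGA41Lib.Separable
import Mathlib

/-!
# Lifting ring maps out of fields and Cohen rings into complete rings

* `exists_lift_adic`: successive lifting modulo the powers of an ideal;
* `formallySmooth_zmod`: fields of characteristic `p` are formally smooth over `ZMod p`;
* `formallySmooth_mod_pow`: if `p` is a non-zero-divisor of the domain `W` and `W ⧸ p` is a field,
  then `W ⧸ p^(n+1)` is formally smooth over `ℤ ⧸ p^(n+1)`;
* `exists_lift_of_cohen`: a map from `W` to `R ⧸ m` lifts to the `m`-adically complete ring `R`.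
-/

universe u v

namespace Groth.Agent.CohenStruct

open TensorProduct

/-- If one can always lift modulo a thickening killed by a power of `m`, one can lift to a
complete ring. -/
theorem exists_lift_adic {W : Type v} {R : Type u} [CommRing W] [CommRing R] (m : Ideal R)
    [IsAdicComplete m R] (u₀ : W →+* R ⧸ m)
    (h : ∀ n, ∀ g : W →+* R ⧸ m ^ (n + 1), ∃ g' : W →+* R ⧸ m ^ (n + 1 + 1),
      (Ideal.Quotient.factorPow m (Nat.le_add_right (n + 1) 1)).comp g' = g) :
    ∃ v : W →+* R, (Ideal.Quotient.mk m).comp v = u₀ := by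
  choose g hg using h
  have hle : m ≤ m ^ (0 + 1) := by rw [zero_add, pow_one]
  let e : R ⧸ m →+* R ⧸ m ^ (0 + 1) := Ideal.Quotient.factor hle
  obtain ⟨f, hf0, hfS⟩ : ∃ f : (n : ℕ) → W →+* R ⧸ m ^ (n + 1), f 0 = e.comp u₀ ∧
      ∀ n, f (n + 1) = g n (f n) :=
    ⟨fun n => Nat.rec (motive := fun n => W →+* R ⧸ m ^ (n + 1)) (e.comp u₀) g n, rfl,
      fun n => rfl⟩
  have hf : ∀ n, (Ideal.Quotient.factorPow m (Nat.le_add_right (n + 1) 1)).comp (f (n + 1)) = f n := by
    intro n; rw [hfS]; exact hg n (f n)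
  have ha : StrictMono fun n : ℕ => n + 1 := fun a b h => Nat.succ_lt_succ h
  let v := IsAdicComplete.StrictMono.liftRingHom m ha f fun {n} => hf n
  refine ⟨v, RingHom.ext fun x => ?_⟩
  have h1 : Ideal.Quotient.mk (m ^ (0 + 1)) (v x) = e (u₀ x) := by
    refine (IsAdicComplete.StrictMono.mk_liftRingHom m ha _ _ (n := 0) x).trans ?_
    rw [hf0]; rfl
  have h2 : Ideal.Quotient.factor (show m ^ (0 + 1) ≤ m by simp)
      (Ideal.Quotient.mk (m ^ (0 + 1)) (v x)) = Ideal.Quotient.mk m (v x) :=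
    Ideal.Quotient.factor_mk _ _
  obtain ⟨r, hr⟩ := Ideal.Quotient.mk_surjective (u₀ x)
  rw [h1, ← hr, Ideal.Quotient.factor_mk, Ideal.Quotient.factor_mk] at h2
  rw [RingHom.comp_apply, ← h2, hr]

theorem isNilpotent_ker_factorPow {R : Type u} [CommRing R] (m : Ideal R) (n : ℕ) :
    IsNilpotent (RingHom.ker (Ideal.Quotient.factorPow m (Nat.le_add_right (n + 1) 1))) := by
  refine ⟨n + 2, ?_⟩
  rw [Ideal.zero_eq_bot, eq_bot_iff, Ideal.Quotient.factorPow, Ideal.Quotient.factor_ker,
    ← Ideal.map_pow, ← Ideal.map_quotient_self (m ^ (n + 2)), ← pow_mul]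
  exact Ideal.map_mono (Ideal.pow_le_pow_right (Nat.le_mul_of_pos_left _ (by omega)))

theorem formallySmooth_zmod (p : ℕ) [Fact p.Prime] (k : Type u) [Field k] [Algebra (ZMod p) k] :
    Algebra.FormallySmooth (ZMod p) k := by
  have : CharP k p := charP_of_injective_algebraMap (algebraMap (ZMod p) k).injective p
  have : PerfectRing (ZMod p) p := PerfectRing.ofFiniteOfIsReduced p (ZMod p)
  obtain ⟨B, hB⟩ := EGA41Lib.exists_isPBasis (p := p) (k := ZMod p) (K := k)
  refine Algebra.FormallySmooth.of_comp_surjective fun C _ _ I hI v => ?_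
  obtain ⟨w, ⟨hw, -⟩, -⟩ := EGA41Lib.existsUnique_lift_square_zero _ hB I hI v
      (fun i => (Ideal.Quotient.mk_surjective (v i)).choose)
      (fun i => (Ideal.Quotient.mk_surjective (v i)).choose_spec)
  exact ⟨w, hw⟩

section Cohen

variable (p : ℕ) (W : Type u) [CommRing W]

/-- `(p^N)` in `ℤ`. -/
abbrev intPow (N : ℕ) : Ideal ℤ := Ideal.span {(p : ℤ) ^ N}

/-- The truncation `W ⧸ p^N`. -/
abbrev Trunc (N : ℕ) : Type u := W ⧸ (intPow p N).map (algebraMap ℤ W)

theorem map_intPow (N : ℕ) :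
    (intPow p N).map (algebraMap ℤ W) = Ideal.span {(p : W) ^ N} := by
  rw [Ideal.map_span, Set.image_singleton, map_pow, map_natCast]

theorem flat_trunc [Module.Flat ℤ W] (N : ℕ) : Module.Flat (ℤ ⧸ intPow p N) (Trunc p W N) :=
  Module.Flat.of_linearEquiv
    (Algebra.TensorProduct.quotIdealMapEquivQuotTensor W (intPow p N)).toLinearEquiv

variable [Fact p.Prime]

theorem formallySmooth_trunc [Module.Flat ℤ W] (hmax : (Ideal.span {(p : W)}).IsMaximal) :
    ∀ n, Algebra.FormallySmooth (ℤ ⧸ intPow p (n + 1)) (Trunc p W (n + 1)) := by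
  intro n
  induction n with
  | zero =>
    have hk : ((intPow p (0 + 1)).map (algebraMap ℤ W)).IsMaximal := by
      rw [map_intPow, zero_add, pow_one]; exact hmax
    let := Ideal.Quotient.field ((intPow p (0 + 1)).map (algebraMap ℤ W))
    have hp : ((p : ℕ) : Trunc p W (0 + 1)) = 0 := by
      rw [← map_natCast (Ideal.Quotient.mk ((intPow p (0 + 1)).map (algebraMap ℤ W))),
        Ideal.Quotient.eq_zero_iff_mem, map_intPow, zero_add, pow_one]
      exact Ideal.subset_span rfl
    have : CharP (Trunc p W (0 + 1)) p := by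
      obtain ⟨q, hq⟩ := CharP.exists (Trunc p W (0 + 1))
      have h1 : q ∣ p := (CharP.cast_eq_zero_iff _ q p).mp hp
      rcases (Nat.dvd_prime (Fact.out : p.Prime)).mp h1 with rfl | rfl
      · exact absurd rfl (CharP.char_ne_one (Trunc p W (0 + 1)) 1)
      · exact hq
    let : Algebra (ZMod p) (Trunc p W (0 + 1)) := ZMod.algebra _ p
    have h1 := formallySmooth_zmod p (Trunc p W (0 + 1))
    let e : ℤ ⧸ intPow p (0 + 1) ≃+* ZMod p :=
      (Ideal.quotEquivOfEq (by simp [intPow])).trans (Int.quotientSpanNatEquivZMod p)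
    have h2 : ((algebraMap (ZMod p) (Trunc p W (0 + 1))).comp e.toRingHom).FormallySmooth :=
      (RingHom.FormallySmooth.of_bijective e.bijective).comp
        (RingHom.formallySmooth_algebraMap.mpr h1)
    rw [← RingHom.formallySmooth_algebraMap]
    convert h2 using 1
    exact Ideal.Quotient.ringHom_ext (RingHom.ext_int _ _)
  | succ n ih =>
    have hle : intPow p (n + 2) ≤ intPow p (n + 1) :=
      Ideal.span_singleton_le_span_singleton.mpr (pow_dvd_pow _ (Nat.le_succ _))
    have hker : RingHom.ker (Ideal.Quotient.factor hle) =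
        (intPow p (n + 1)).map (Ideal.Quotient.mk (intPow p (n + 2))) :=
      Ideal.Quotient.factor_ker hle
    rw [← RingHom.formallySmooth_algebraMap]
    refine RingHom.FormallySmooth.of_flat_of_ker_eq_map_of_square_zero
      (algebraMap (ℤ ⧸ intPow p (n + 2)) (Trunc p W (n + 2)))
      (RingHom.flat_algebraMap_iff.mpr (flat_trunc p W _))
      (Ideal.Quotient.factor hle)
      (Ideal.Quotient.factor (Ideal.map_mono (f := algebraMap ℤ W) hle))
      (algebraMap (ℤ ⧸ intPow p (n + 1)) (Trunc p W (n + 1)))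
      (Ideal.Quotient.factor_surjective hle) (Ideal.Quotient.factor_surjective _)
      (Ideal.Quotient.ringHom_ext (RingHom.ext_int _ _)) ?_ ?_
      (RingHom.formallySmooth_algebraMap.mpr ih)
    · rw [hker, ← Ideal.map_pow, eq_bot_iff, ← Ideal.map_quotient_self (intPow p (n + 2))]
      refine Ideal.map_mono ?_
      rw [Ideal.span_singleton_pow, ← pow_mul]
      exact Ideal.span_singleton_le_span_singleton.mpr (pow_dvd_pow _ (by omega))
    · rw [Ideal.Quotient.factor_ker, hker, Ideal.map_map, Ideal.map_map]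
      congr 1

variable [IsDomain W] [CharZero W]

theorem flat_int : Module.Flat ℤ W := inferInstance

/-- **Lifting property of Cohen rings.** -/
theorem exists_lift_of_cohen (hmax : (Ideal.span {(p : W)}).IsMaximal) {R : Type u} [CommRing R]
    (m : Ideal R) [IsAdicComplete m R] (hp : (p : R) ∈ m) (u₀ : W →+* R ⧸ m) :
    ∃ v : W →+* R, (Ideal.Quotient.mk m).comp v = u₀ := by
  refine exists_lift_adic m u₀ fun n g => ?_
  have hz : ∀ {j : ℕ}, j ≤ n + 2 → (intPow p (n + 2)).map (algebraMap ℤ (R ⧸ m ^ j)) = ⊥ := by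
    intro j hj
    rw [intPow, Ideal.map_span, Set.image_singleton, Ideal.span_singleton_eq_bot, map_pow,
      map_natCast, ← map_natCast (Ideal.Quotient.mk (m ^ j)),
      ← map_pow, Ideal.Quotient.eq_zero_iff_mem]
    exact Ideal.pow_le_pow_right hj (Ideal.pow_mem_pow hp _)
  have hg : ∀ x ∈ (intPow p (n + 2)).map (algebraMap ℤ W), g x = 0 := by
    intro x hx
    have := Ideal.mem_map_of_mem g hx
    rwa [Ideal.map_map, RingHom.eq_intCast' (g.comp (algebraMap ℤ W)),
      ← RingHom.eq_intCast' (algebraMap ℤ (R ⧸ m ^ (n + 1))), hz (Nat.le_succ _),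
      Ideal.mem_bot] at this
  have hkill : ∀ {j : ℕ}, j ≤ n + 2 → ∀ x ∈ intPow p (n + 2),
      algebraMap ℤ (R ⧸ m ^ j) x = 0 := fun {j} hj x hx => by
    have := Ideal.mem_map_of_mem (algebraMap ℤ (R ⧸ m ^ j)) hx
    rwa [hz hj, Ideal.mem_bot] at this
  let : Algebra (ℤ ⧸ intPow p (n + 2)) (R ⧸ m ^ (n + 1)) :=
    (Ideal.Quotient.lift _ (algebraMap ℤ _) (hkill (Nat.le_succ _))).toAlgebra
  let : Algebra (ℤ ⧸ intPow p (n + 2)) (R ⧸ m ^ (n + 1 + 1)) :=
    (Ideal.Quotient.lift _ (algebraMap ℤ _) (hkill le_rfl)).toAlgebra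
  let gb : Trunc p W (n + 2) →ₐ[ℤ ⧸ intPow p (n + 2)] R ⧸ m ^ (n + 1) :=
    { Ideal.Quotient.lift _ g hg with
      commutes' := fun a => RingHom.congr_fun
        (Ideal.Quotient.ringHom_ext (RingHom.ext_int _ _) :
          (Ideal.Quotient.lift _ g hg).comp (algebraMap (ℤ ⧸ intPow p (n + 2)) (Trunc p W (n + 2))) =
            algebraMap _ _) a }
  let q : R ⧸ m ^ (n + 1 + 1) →ₐ[ℤ ⧸ intPow p (n + 2)] R ⧸ m ^ (n + 1) :=
    { Ideal.Quotient.factorPow m (Nat.le_add_right (n + 1) 1) with
      commutes' := fun a => RingHom.congr_fun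
        (Ideal.Quotient.ringHom_ext (RingHom.ext_int _ _) :
          (Ideal.Quotient.factorPow m (Nat.le_add_right (n + 1) 1)).comp
            (algebraMap (ℤ ⧸ intPow p (n + 2)) (R ⧸ m ^ (n + 1 + 1))) = algebraMap _ _) a }
  have := formallySmooth_trunc p W hmax (n + 1)
  have hq : Function.Surjective q :=
    Ideal.Quotient.factor_surjective (Ideal.pow_le_pow_right (Nat.le_add_right (n + 1) 1))
  refine ⟨(Algebra.FormallySmooth.liftOfSurjective gb q hq
    (isNilpotent_ker_factorPow m n)).toRingHom.comp (Ideal.Quotient.mk _), RingHom.ext fun x => ?_⟩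
  exact Algebra.FormallySmooth.liftOfSurjective_apply gb q hq (isNilpotent_ker_factorPow m n) _

end Cohen

/-- Fields of characteristic `p` lift into complete rings of characteristic `p`. -/
theorem exists_lift_of_charP (p : ℕ) [Fact p.Prime] (k : Type u) [Field k] [CharP k p]
    {R : Type u} [CommRing R] (m : Ideal R) [IsAdicComplete m R] (hp : (p : R) = 0)
    (u₀ : k →+* R ⧸ m) : ∃ v : k →+* R, (Ideal.Quotient.mk m).comp v = u₀ := by
  let := ZMod.algebra k p
  have := formallySmooth_zmod p k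
  refine exists_lift_adic m u₀ fun n g => ?_
  have hk : ∀ (j : ℕ) x, x ∈ Ideal.span {(p : ℤ)} → Int.castRingHom (R ⧸ m ^ j) x = 0 := by
    intro j x hx
    obtain ⟨y, rfl⟩ := Ideal.mem_span_singleton'.mp hx
    rw [map_mul, map_natCast, ← map_natCast (Ideal.Quotient.mk (m ^ j)), hp, map_zero, mul_zero]
  let c : ∀ j, ZMod p →+* R ⧸ m ^ j := fun j =>
    (Ideal.Quotient.lift _ (Int.castRingHom (R ⧸ m ^ j)) (hk j)).comp
      (Int.quotientSpanNatEquivZMod p).symm.toRingHom
  let : Algebra (ZMod p) (R ⧸ m ^ (n + 1)) := (c _).toAlgebra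
  let : Algebra (ZMod p) (R ⧸ m ^ (n + 1 + 1)) := (c _).toAlgebra
  let ga : k →ₐ[ZMod p] R ⧸ m ^ (n + 1) :=
    { g with
      commutes' := fun a => RingHom.congr_fun
        (Subsingleton.elim (g.comp (algebraMap (ZMod p) k)) (algebraMap (ZMod p) _)) a }
  let q : R ⧸ m ^ (n + 1 + 1) →ₐ[ZMod p] R ⧸ m ^ (n + 1) :=
    { Ideal.Quotient.factorPow m (Nat.le_add_right (n + 1) 1) with
      commutes' := fun a => RingHom.congr_fun
        (Subsingleton.elim ((Ideal.Quotient.factorPow m (Nat.le_add_right (n + 1) 1)).comp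
          (algebraMap (ZMod p) (R ⧸ m ^ (n + 1 + 1)))) (algebraMap (ZMod p) _)) a }
  have hq : Function.Surjective q :=
    Ideal.Quotient.factor_surjective (Ideal.pow_le_pow_right (Nat.le_add_right (n + 1) 1))
  exact ⟨(Algebra.FormallySmooth.liftOfSurjective ga q hq
    (isNilpotent_ker_factorPow m n)).toRingHom, RingHom.ext fun x =>
      Algebra.FormallySmooth.liftOfSurjective_apply ga q hq (isNilpotent_ker_factorPow m n) x⟩

/-- Coefficient fields in residue characteristic zero. -/
theorem exists_lift_of_charZero (k : Type u) [Field k] [CharZero k]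
    {R : Type u} [CommRing R] (m : Ideal R) [IsAdicComplete m R]
    (hunit : ∀ z : ℤ, z ≠ 0 → IsUnit (z : R))
    (u₀ : k →+* R ⧸ m) : ∃ v : k →+* R, (Ideal.Quotient.mk m).comp v = u₀ := by
  have hq : ∀ y : nonZeroDivisors ℤ, IsUnit (Int.castRingHom R y) := fun y =>
    hunit y (nonZeroDivisors.coe_ne_zero y)
  let c : ℚ →+* R := IsLocalization.lift (M := nonZeroDivisors ℤ) hq
  let : Algebra ℚ R := c.toAlgebra
  refine exists_lift_adic m u₀ fun n g => ?_
  let : Algebra ℚ (R ⧸ m ^ (n + 1)) := ((Ideal.Quotient.mk _).comp c).toAlgebra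
  let : Algebra ℚ (R ⧸ m ^ (n + 1 + 1)) := ((Ideal.Quotient.mk _).comp c).toAlgebra
  have : Algebra.FormallySmooth ℚ k := by
    obtain ⟨s, hs⟩ := exists_isTranscendenceBasis ℚ k
    have : Algebra.IsAlgebraic (IntermediateField.adjoin ℚ (Set.range (Subtype.val : s → k))) k :=
      hs.isAlgebraic_field
    have : CharZero (IntermediateField.adjoin ℚ (Set.range (Subtype.val : s → k))) :=
      charZero_of_injective_algebraMap (R := ℚ) (RingHom.injective _)
    exact Algebra.FormallySmooth.of_algebraicIndependent_of_isSeparable hs.1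
  let ga : k →ₐ[ℚ] R ⧸ m ^ (n + 1) :=
    { g with
      commutes' := fun a => RingHom.congr_fun
        (Subsingleton.elim (g.comp (algebraMap ℚ k)) (algebraMap ℚ _)) a }
  let q : R ⧸ m ^ (n + 1 + 1) →ₐ[ℚ] R ⧸ m ^ (n + 1) :=
    { Ideal.Quotient.factorPow m (Nat.le_add_right (n + 1) 1) with
      commutes' := fun a => RingHom.congr_fun
        (Subsingleton.elim ((Ideal.Quotient.factorPow m (Nat.le_add_right (n + 1) 1)).comp
          (algebraMap ℚ (R ⧸ m ^ (n + 1 + 1)))) (algebraMap ℚ _)) a }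
  have hq' : Function.Surjective q :=
    Ideal.Quotient.factor_surjective (Ideal.pow_le_pow_right (Nat.le_add_right (n + 1) 1))
  exact ⟨(Algebra.FormallySmooth.liftOfSurjective ga q hq'
    (isNilpotent_ker_factorPow m n)).toRingHom, RingHom.ext fun x =>
      Algebra.FormallySmooth.liftOfSurjective_apply ga q hq' (isNilpotent_ker_factorPow m n) x⟩

end Groth.Agent.CohenStruct
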