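import Mathlib
import Groth.Agent.AdicLim.Filt

/-!
# Evaluating power series in complete rings; finiteness by completeness
-/

universe u v w

namespace Groth.Agent.CohenStruct

open IsLocalRing

section Eval

variable {σ : Type w} [Finite σ] {Λ : Type u} [CommRing Λ] {R : Type v} [CommRing R]
  (I : Ideal R) (φ : Λ →+* R) (a : σ → R)

/-- Evaluation modulo `I ^ n`. -/
noncomputable def evalLevel (ha : ∀ i, a i ∈ I) (n : ℕ) : MvPowerSeries σ Λ →+* R ⧸ I ^ n :=
  (Ideal.Quotient.lift (MvPolynomial.idealOfVars σ Λ ^ n)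
    ((Ideal.Quotient.mk (I ^ n)).comp (MvPolynomial.eval₂Hom φ a)) (fun x hx => by
      rw [RingHom.comp_apply, Ideal.Quotient.eq_zero_iff_mem]
      have h := Ideal.mem_map_of_mem (MvPolynomial.eval₂Hom φ a) hx
      rw [Ideal.map_pow] at h
      refine Ideal.pow_right_mono (Ideal.map_le_iff_le_comap.mpr ?_) n h
      rw [MvPolynomial.idealOfVars, Ideal.span_le]
      rintro _ ⟨i, rfl⟩
      simpa using ha i)).comp (MvPowerSeries.truncTotalAlgHom σ Λ n).toRingHom

theorem evalLevel_apply (ha : ∀ i, a i ∈ I) (n : ℕ) (f : MvPowerSeries σ Λ) :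
    evalLevel I φ a ha n f =
      Ideal.Quotient.mk (I ^ n) (MvPolynomial.eval₂ φ a (MvPowerSeries.truncTotal n f)) := rfl

theorem factor_evalLevel (ha : ∀ i, a i ∈ I) {m n : ℕ} (h : m ≤ n) :
    (Ideal.Quotient.factorPow I h).comp (evalLevel I φ a ha n) = evalLevel I φ a ha m := by
  refine RingHom.ext fun f => ?_
  rw [RingHom.comp_apply, evalLevel_apply, evalLevel_apply, Ideal.Quotient.factorPow,
    Ideal.Quotient.factor_mk, Ideal.Quotient.mk_eq_mk_iff_sub_mem, ← MvPolynomial.coe_eval₂Hom,
    ← map_sub]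
  have h1 := Ideal.mem_map_of_mem (MvPolynomial.eval₂Hom φ a)
    (MvPowerSeries.truncTotal_sub_truncTotal_mem_pow_idealOfVars (l := m) h le_rfl f)
  rw [Ideal.map_pow] at h1
  refine Ideal.pow_right_mono (Ideal.map_le_iff_le_comap.mpr ?_) m h1
  rw [MvPolynomial.idealOfVars, Ideal.span_le]
  rintro _ ⟨i, rfl⟩
  simpa using ha i

variable [IsAdicComplete I R]

/-- **Evaluation** of power series at elements of the ideal of definition. -/
noncomputable def evalPS (ha : ∀ i, a i ∈ I) : MvPowerSeries σ Λ →+* R :=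
  IsAdicComplete.liftRingHom I (evalLevel I φ a ha) (factor_evalLevel I φ a ha)

theorem evalPS_coe (ha : ∀ i, a i ∈ I) (P : MvPolynomial σ Λ) :
    evalPS I φ a ha (P : MvPowerSeries σ Λ) = MvPolynomial.eval₂ φ a P := by
  refine (IsHausdorff.eq_iff_smodEq (I := I)).2 fun n => ?_
  rw [SModEq.sub_mem, smul_eq_mul, Ideal.mul_top, ← Ideal.Quotient.mk_eq_mk_iff_sub_mem, evalPS,
    IsAdicComplete.mk_liftRingHom, evalLevel, RingHom.comp_apply]
  have h := (MvPowerSeries.truncTotalAlgHom σ Λ n).commutes P
  rw [AlgHom.toRingHom_eq_coe, RingHom.coe_coe]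
  erw [h]
  rfl

theorem evalPS_X (ha : ∀ i, a i ∈ I) (i : σ) : evalPS I φ a ha (MvPowerSeries.X i) = a i := by
  rw [← MvPolynomial.coe_X, evalPS_coe, MvPolynomial.eval₂_X]

theorem evalPS_C (ha : ∀ i, a i ∈ I) (c : Λ) : evalPS I φ a ha (MvPowerSeries.C c) = φ c := by
  rw [← MvPolynomial.coe_C, evalPS_coe, MvPolynomial.eval₂_C]

theorem map_span_X (ha : ∀ i, a i ∈ I) :
    (Ideal.span (Set.range MvPowerSeries.X) : Ideal (MvPowerSeries σ Λ)).map (evalPS I φ a ha) =
      Ideal.span (Set.range a) := by
  rw [Ideal.map_span, ← Set.range_comp]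
  congr 2
  exact funext (evalPS_X I φ a ha)

end Eval

/-- **Complete Nakayama for ring maps.** -/
theorem finite_of_complete {A : Type u} [CommRing A] {R : Type v} [CommRing R] (I : Ideal A)
    [IsPrecomplete I A] (e : A →+* R) [hH : IsHausdorff (I.map e) R]
    (h : ((Ideal.Quotient.mk (I.map e)).comp e).Finite) : e.Finite := by
  classical
  let _ := e.toAlgebra
  let q : R →ₗ[A] R ⧸ I.map e :=
    (Ideal.Quotient.mkₐ A (I.map e)).toLinearMap
  have hfin : Module.Finite A (R ⧸ I.map e) := RingHom.finite_algebraMap.mp h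
  obtain ⟨n, g, hg⟩ := Module.Finite.exists_fin (R := A) (M := R ⧸ I.map e)
  choose r hr using fun i => Ideal.Quotient.mk_surjective (g i)
  let f : (Fin n → A) →ₗ[A] R := Fintype.linearCombination A r
  have hHA : IsHausdorff I R := IsHausdorff.map_algebraMap_iff.mp hH
  have := AdicLim.isPrecomplete_pi (I := I) (ι := Fin n) A
  have hs : Function.Surjective f := by
    refine surjective_of_mkQ_comp_surjective (I := I) fun y => ?_
    obtain ⟨y, rfl⟩ := Submodule.mkQ_surjective _ y
    have hy : q y ∈ Submodule.span A (Set.range g) := hg.symm ▸ Submodule.mem_top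
    rw [Submodule.mem_span_range_iff_exists_fun] at hy
    obtain ⟨c, hc⟩ := hy
    refine ⟨c, ?_⟩
    have h1 : f c - y ∈ I.map e := by
      rw [← Ideal.Quotient.mk_eq_mk_iff_sub_mem]
      change q (f c) = q y
      rw [← hc, show f c = ∑ i, c i • r i from Fintype.linearCombination_apply A r c, map_sum]
      refine Finset.sum_congr rfl fun i _ => ?_
      rw [map_smul, ← hr i]; rfl
    rw [LinearMap.comp_apply, Submodule.mkQ_apply, Submodule.mkQ_apply, Submodule.Quotient.eq,
      Ideal.smul_top_eq_map]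
    exact h1
  exact RingHom.finite_algebraMap.mpr (Module.Finite.of_surjective f hs)

/-- A local ring with nilpotent, finitely generated maximal ideal is finite over any ring
surjecting onto its residue field. -/
theorem finite_of_pow_maximalIdeal_eq_bot {A : Type u} [CommRing A] {R : Type v} [CommRing R]
    [IsLocalRing R] (hfg : (maximalIdeal R).FG) (φ : A →+* R)
    (hsurj : Function.Surjective ((residue R).comp φ)) {N : ℕ} (hN : maximalIdeal R ^ N = ⊥) :
    φ.Finite := by
  classical
  let _ := φ.toAlgebra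
  suffices h : ∀ j, ∃ G : Finset R,
      (⊤ : Submodule A R) ≤ Submodule.span A (G : Set R) ⊔ (maximalIdeal R ^ j).restrictScalars A by
    obtain ⟨G, hG⟩ := h N
    rw [hN, Submodule.restrictScalars_bot, sup_bot_eq] at hG
    exact RingHom.finite_algebraMap.mpr ⟨G, top_le_iff.mp hG⟩
  intro j
  induction j with
  | zero => exact ⟨∅, by simp⟩
  | succ j ih =>
    obtain ⟨G, hG⟩ := ih
    obtain ⟨H, hH⟩ := (hfg.pow (n := j))
    refine ⟨G ∪ H, hG.trans (sup_le ?_ ?_)⟩
    · exact le_sup_of_le_left (Submodule.span_mono (by simp))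
    · intro x hx
      change x ∈ maximalIdeal R ^ j at hx
      rw [← hH] at hx
      induction hx using Submodule.span_induction with
      | mem y hy =>
        exact Submodule.mem_sup_left (Submodule.subset_span (by simp [Finset.mem_coe.mp hy]))
      | zero => exact zero_mem _
      | add y z _ _ hy hz => exact add_mem hy hz
      | smul r y hy' ih =>
        obtain ⟨l, hl⟩ := hsurj (residue R r)
        have hmem : r - φ l ∈ maximalIdeal R := by
          rw [← residue_eq_zero_iff, map_sub, ← RingHom.comp_apply, hl, sub_self]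
        have heq : r • y = l • y + (r - φ l) * y := by
          rw [smul_eq_mul, Algebra.smul_def]; change _ = φ l * y + _; ring
        rw [heq]
        refine add_mem (Submodule.smul_mem _ l ih) (Submodule.mem_sup_right ?_)
        change _ ∈ maximalIdeal R ^ (j + 1)
        rw [pow_succ']
        exact Ideal.mul_mem_mul hmem (hH ▸ hy')

/-- Power series with vanishing constant term lie in the ideal of the variables. -/
theorem mem_span_X_of_constantCoeff {Λ : Type u} [CommRing Λ] :
    ∀ (n : ℕ) (f : MvPowerSeries (Fin n) Λ), MvPowerSeries.constantCoeff f = 0 →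
      f ∈ Ideal.span (Set.range (MvPowerSeries.X : Fin n → MvPowerSeries (Fin n) Λ)) := by
  intro n
  induction n with
  | zero =>
    intro f hf
    have : f = 0 := by
      ext x
      rw [Subsingleton.elim x 0, MvPowerSeries.coeff_zero_eq_constantCoeff_apply, hf, map_zero]
    rw [this]; exact zero_mem _
  | succ n ih =>
    intro f hf
    set e := MvPowerSeries.finSuccEquiv Λ n
    set J := Ideal.span (Set.range (MvPowerSeries.X : Fin (n + 1) → MvPowerSeries (Fin (n + 1)) Λ))
    obtain ⟨g, hg⟩ : ∃ g, e f = PowerSeries.X * g + PowerSeries.C (PowerSeries.constantCoeff (e f)) :=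
      ⟨_, PowerSeries.eq_X_mul_shift_add_const _⟩
    have h0 : MvPowerSeries.constantCoeff (PowerSeries.constantCoeff (e f)) = 0 := by
      rw [← PowerSeries.coeff_zero_eq_constantCoeff_apply,
        ← MvPowerSeries.coeff_zero_eq_constantCoeff_apply,
        MvPowerSeries.coeff_coeff_finSuccEquiv, Finsupp.cons_zero_zero,
        MvPowerSeries.coeff_zero_eq_constantCoeff_apply, hf]
    have h1 : e.symm (PowerSeries.C (PowerSeries.constantCoeff (e f))) ∈ J := by
      have hle : Ideal.span (Set.range (MvPowerSeries.X : Fin n → MvPowerSeries (Fin n) Λ)) ≤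
          J.comap (e.symm.toRingEquiv.toRingHom.comp PowerSeries.C) := by
        rw [Ideal.span_le]
        rintro _ ⟨i, rfl⟩
        change e.symm (PowerSeries.C (MvPowerSeries.X i)) ∈ J
        rw [← MvPowerSeries.finSuccEquiv_X_succ, AlgEquiv.symm_apply_apply]
        exact Ideal.subset_span ⟨i.succ, rfl⟩
      exact hle (ih _ h0)
    have h2 : e.symm (PowerSeries.X * g) ∈ J := by
      rw [map_mul, ← MvPowerSeries.finSuccEquiv_X_zero, AlgEquiv.symm_apply_apply]
      exact Ideal.mul_mem_right _ _ (Ideal.subset_span ⟨0, rfl⟩)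
    have := add_mem h2 h1
    rwa [← map_add, ← hg, AlgEquiv.symm_apply_apply] at this

theorem maximalIdeal_mvPowerSeries_le {Λ : Type u} [CommRing Λ] [IsLocalRing Λ] (n : ℕ) :
    maximalIdeal (MvPowerSeries (Fin n) Λ) ≤ (maximalIdeal Λ).map MvPowerSeries.C ⊔
      Ideal.span (Set.range MvPowerSeries.X) := by
  intro f hf
  rw [mem_maximalIdeal, mem_nonunits_iff, MvPowerSeries.isUnit_iff_constantCoeff] at hf
  have h1 : f = MvPowerSeries.C (MvPowerSeries.constantCoeff f) +
      (f - MvPowerSeries.C (MvPowerSeries.constantCoeff f)) := by ring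
  rw [h1]
  refine add_mem (Submodule.mem_sup_left (Ideal.mem_map_of_mem _ hf)) (Submodule.mem_sup_right ?_)
  exact mem_span_X_of_constantCoeff n _ (by simp)

theorem ringKrullDim_mvPowerSeries_le {Λ : Type u} [CommRing Λ] [IsLocalRing Λ]
    [IsNoetherianRing Λ] (n : ℕ) (s : Finset Λ) (hs : maximalIdeal Λ = Ideal.span (s : Set Λ)) :
    ringKrullDim (MvPowerSeries (Fin n) Λ) ≤ (n + s.card : ℕ) := by
  classical
  let t : Finset (MvPowerSeries (Fin n) Λ) :=
    Finset.univ.image MvPowerSeries.X ∪ s.image MvPowerSeries.C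
  have hspan : maximalIdeal (MvPowerSeries (Fin n) Λ) =
      Ideal.span (t : Set (MvPowerSeries (Fin n) Λ)) := by
    refine le_antisymm ((maximalIdeal_mvPowerSeries_le n).trans (sup_le ?_ ?_)) ?_
    · refine (Ideal.map_mono hs.le).trans ?_
      rw [Ideal.map_span]
      exact Ideal.span_mono (fun _ ⟨x, hx, h⟩ => by simpa [t] using Or.inr ⟨x, hx, h⟩)
    · exact Ideal.span_mono (fun _ ⟨i, h⟩ => by simpa [t] using Or.inl ⟨i, h⟩)
    · rw [Ideal.span_le]
      intro x hx
      simp only [t, Finset.coe_union, Finset.coe_image, Finset.coe_univ, Set.image_univ,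
        Set.mem_union, Set.mem_range, Set.mem_image] at hx
      rw [SetLike.mem_coe, mem_maximalIdeal, mem_nonunits_iff,
        MvPowerSeries.isUnit_iff_constantCoeff]
      rcases hx with ⟨i, rfl⟩ | ⟨c, hc, rfl⟩
      · simp
      · rw [MvPowerSeries.constantCoeff_C]
        intro hu
        exact (maximalIdeal.isMaximal Λ).ne_top (Ideal.eq_top_of_isUnit_mem _
          (hs ▸ Ideal.subset_span hc) hu)
  refine (ringKrullDim_le_spanFinrank_maximalIdeal _).trans ?_
  rw [hspan]
  refine Nat.cast_le.mpr ((Submodule.spanFinrank_span_le_ncard_of_finite t.finite_toSet).trans ?_)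
  rw [Set.ncard_coe_finset]
  refine (Finset.card_union_le _ _).trans (add_le_add ?_ Finset.card_image_le)
  exact Finset.card_image_le.trans (by simp)

end Groth.Agent.CohenStruct
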