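import Mathlib
import Groth.Prelude.Def_Found
import Groth.Agent.CohenStruct.Lift
import Groth.Agent.CohenStruct.Existence
import Groth.Agent.CohenStruct.PowerSeries
import Groth.Agent.DimTrdeg.Basic
import Groth.Agent.AdicLim.Noetherian

/-!
# The Cohen structure theorem
-/

universe u

namespace Groth.Agent.CohenStruct

open IsLocalRing

/-- A coefficient ring: a field, or a Cohen ring for a prime `p` with `p ≠ 0` in `R`. -/
theorem exists_coefficientRing (R : Type u) [CommRing R] [IsLocalRing R]
    [IsAdicComplete (maximalIdeal R) R] :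
    ∃ (Λ : Type u) (_ : CommRing Λ) (_ : IsLocalRing Λ) (_ : IsDomain Λ) (φ : Λ →+* R),
      IsNoetherianRing Λ ∧ Function.Surjective ((residue R).comp φ) ∧
      (IsField Λ ∨ (CAlg.IsCohenRing Λ ∧ ∃ p : ℕ, p.Prime ∧ maximalIdeal Λ = Ideal.span {(p : Λ)} ∧
        (p : R) ≠ 0 ∧ (p : R) ∈ maximalIdeal R)) := by
  obtain ⟨p, hchar⟩ := CharP.exists (ResidueField R)
  rcases CharP.char_is_prime_or_zero (ResidueField R) p with hp | rfl
  · have : Fact p.Prime := ⟨hp⟩
    have hpm : (p : R) ∈ maximalIdeal R := by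
      rw [← residue_eq_zero_iff, map_natCast, CharP.cast_eq_zero]
    by_cases hpR : (p : R) = 0
    · obtain ⟨v, hv⟩ := exists_lift_of_charP p (ResidueField R) (maximalIdeal R) hpR (RingHom.id _)
      refine ⟨ResidueField R, inferInstance, inferInstance, inferInstance, v, inferInstance,
        fun x => ⟨x, RingHom.congr_fun hv x⟩, Or.inl (Field.toIsField _)⟩
    · obtain ⟨Λ, _, _, _, hΛ, hmax, ⟨e⟩⟩ := exists_cohenRing p (ResidueField R)
      have hp0 : (p : Λ) ≠ 0 := by
        obtain ⟨_, hdvr, -⟩ := hΛ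
        intro h0
        rw [h0, Ideal.span_singleton_eq_bot.mpr rfl] at hmax
        exact hdvr.not_a_field' hmax
      have hN : IsNoetherianRing Λ := by
        obtain ⟨hd, hdvr, -⟩ := hΛ
        exact @PrincipalIdealRing.isNoetherianRing Λ _ hdvr.toIsPrincipalIdealRing
      have hc0 : CharZero Λ := by
        obtain ⟨q, hq⟩ := CharP.exists Λ
        rcases CharP.char_is_prime_or_zero Λ q with hq' | rfl
        · exfalso
          rcases eq_or_ne q p with rfl | hne
          · exact hp0 (CharP.cast_eq_zero Λ q)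
          · have h0 : ((q : ℕ) : ResidueField R) = 0 := by
              rw [← map_natCast (e.toRingHom.comp (residue Λ)), CharP.cast_eq_zero, map_zero]
            rw [CharP.cast_eq_zero_iff (ResidueField R) p, Nat.prime_dvd_prime_iff_eq hp hq'] at h0
            exact hne h0.symm
        · exact CharP.charP_to_charZero Λ
      obtain ⟨v, hv⟩ := exists_lift_of_cohen p Λ (hmax ▸ maximalIdeal.isMaximal Λ) (maximalIdeal R)
        hpm (e.toRingHom.comp (residue Λ))
      refine ⟨Λ, inferInstance, inferInstance, inferInstance, v, hN, fun x => ?_,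
        Or.inr ⟨hΛ, p, hp, hmax, hpR, hpm⟩⟩
      obtain ⟨y, hy⟩ := residue_surjective (e.symm x)
      refine ⟨y, (RingHom.congr_fun hv y).trans ?_⟩
      change e (residue Λ y) = x
      rw [hy]
      exact e.apply_symm_apply x
  · have : CharZero (ResidueField R) := CharP.charP_to_charZero _
    have hunit : ∀ z : ℤ, z ≠ 0 → IsUnit (z : R) := fun z hz => by
      rw [← residue_ne_zero_iff_isUnit, map_intCast]
      exact Int.cast_ne_zero.mpr hz
    obtain ⟨v, hv⟩ := exists_lift_of_charZero (ResidueField R) (maximalIdeal R) hunit (RingHom.id _)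
    exact ⟨ResidueField R, inferInstance, inferInstance, inferInstance, v, inferInstance,
      fun x => ⟨x, RingHom.congr_fun hv x⟩, Or.inl (Field.toIsField _)⟩

/-- **Cohen structure theorem**, surjective form. -/
theorem exists_surjective (R : Type u) [CommRing R] [IsLocalRing R]
    [IsAdicComplete (maximalIdeal R) R] (hfg : (maximalIdeal R).FG) :
    ∃ (Λ : Type u) (_ : CommRing Λ) (n : ℕ) (f : MvPowerSeries (Fin n) Λ →+* R),
      (IsField Λ ∨ CAlg.IsCohenRing Λ) ∧ Function.Surjective f := by
  obtain ⟨Λ, _, _, _, φ, -, hsurj, hΛ⟩ := exists_coefficientRing R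
  obtain ⟨n, a, ha⟩ := Submodule.fg_iff_exists_fin_generating_family.mp hfg
  have ham : ∀ i, a i ∈ maximalIdeal R := fun i => ha ▸ Submodule.subset_span ⟨i, rfl⟩
  refine ⟨Λ, inferInstance, n, evalPS (maximalIdeal R) φ a ham, hΛ.imp_right And.left, ?_⟩
  have hmap : (Ideal.span (Set.range MvPowerSeries.X) : Ideal (MvPowerSeries (Fin n) Λ)).map
      (evalPS (maximalIdeal R) φ a ham) = maximalIdeal R := by
    rw [map_span_X]; exact ha
  have : IsHausdorff ((Ideal.span (Set.range MvPowerSeries.X) : Ideal (MvPowerSeries (Fin n) Λ)).map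
      (evalPS (maximalIdeal R) φ a ham)) R := by rw [hmap]; infer_instance
  refine surjective_of_mk_map_comp_surjective (evalPS (maximalIdeal R) φ a ham)
    (I := Ideal.span (Set.range MvPowerSeries.X)) fun y => ?_
  obtain ⟨y, rfl⟩ := Ideal.Quotient.mk_surjective y
  obtain ⟨c, hc⟩ := hsurj (residue R y)
  refine ⟨MvPowerSeries.C c, ?_⟩
  rw [RingHom.comp_apply, evalPS_C, Ideal.Quotient.mk_eq_mk_iff_sub_mem, hmap,
    ← residue_eq_zero_iff, map_sub, ← RingHom.comp_apply, hc, sub_self]

/-- Finiteness of evaluation at a system of parameters. -/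
theorem evalPS_finite {R : Type u} [CommRing R] [IsLocalRing R] [IsNoetherianRing R]
    [IsAdicComplete (maximalIdeal R) R] {Λ : Type u} [CommRing Λ] (φ : Λ →+* R)
    {n : ℕ} (a : Fin n → R) (ham : ∀ i, a i ∈ maximalIdeal R)
    (h : ((Ideal.Quotient.mk (Ideal.span (Set.range a))).comp φ).Finite) :
    (evalPS (maximalIdeal R) φ a ham).Finite := by
  have hne : Ideal.span (Set.range a) ≠ ⊤ :=
    ne_top_of_le_ne_top (maximalIdeal.isMaximal R).ne_top
      (Ideal.span_le.mpr (Set.range_subset_iff.mpr ham))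
  have : IsHausdorff ((Ideal.span (Set.range MvPowerSeries.X) :
      Ideal (MvPowerSeries (Fin n) Λ)).map (evalPS (maximalIdeal R) φ a ham)) R := by
    rw [map_span_X]; exact IsHausdorff.of_isLocalRing _ _ hne
  refine finite_of_complete (Ideal.span (Set.range MvPowerSeries.X)) _ ?_
  refine RingHom.Finite.of_comp_finite (f := MvPowerSeries.C) ?_
  have : (evalPS (maximalIdeal R) φ a ham).comp MvPowerSeries.C = φ :=
    RingHom.ext (evalPS_C _ φ a ham)
  rw [RingHom.comp_assoc, this]
  let e := Ideal.quotEquivOfEq (map_span_X (maximalIdeal R) φ a ham).symm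
  have h2 : (e.toRingHom.comp ((Ideal.Quotient.mk (Ideal.span (Set.range a))).comp φ)).Finite :=
    (RingHom.Finite.of_surjective _ e.surjective).comp h
  convert h2 using 1
  rfl

/-- In a Noetherian local ring, `dim R` elements generate an ideal containing a power of the
maximal ideal. -/
theorem exists_parameters (R : Type u) [CommRing R] [IsLocalRing R] [IsNoetherianRing R] :
    ∃ (d : ℕ) (a : Fin d → R) (N : ℕ), ringKrullDim R = d ∧ (∀ i, a i ∈ maximalIdeal R) ∧
      maximalIdeal R ^ N ≤ Ideal.span (Set.range a) := by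
  classical
  obtain ⟨s, hs, hcard⟩ := Ideal.exists_finset_card_eq_height_of_isNoetherianRing (maximalIdeal R)
  let a : Fin s.card → R := fun i => (s.equivFin.symm i : R)
  have hr : Set.range a = (s : Set R) := by
    ext x; simp only [a, Set.mem_range, Finset.mem_coe]
    exact ⟨fun ⟨i, hi⟩ => hi ▸ (s.equivFin.symm i).2, fun hx => ⟨s.equivFin ⟨x, hx⟩, by simp⟩⟩
  have hle : Ideal.span (Set.range a) ≤ maximalIdeal R := hr ▸ hs.1.2
  have hrad : (Ideal.span (Set.range a)).radical = maximalIdeal R := by
    rw [hr] at hle ⊢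
    refine le_antisymm ((maximalIdeal.isMaximal R).isPrime.radical_le_iff.mpr hle) ?_
    rw [Ideal.radical_eq_sInf]
    refine le_sInf fun P ⟨hP1, hP2⟩ => ?_
    exact hs.2 ⟨hP2, hP1⟩ (le_maximalIdeal hP2.ne_top)
  obtain ⟨N, hN⟩ := Ideal.exists_pow_le_of_le_radical_of_fg hrad.ge (IsNoetherian.noetherian _)
  refine ⟨s.card, a, N, ?_, fun i => hle (Ideal.subset_span ⟨i, rfl⟩), hN⟩
  rw [← maximalIdeal_height_eq_ringKrullDim, ← hcard]
  rfl

/-- An injective map from a domain when the dimensions force it. -/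
theorem injective_of_finite_of_dim {P R : Type u} [CommRing P] [IsDomain P] [CommRing R]
    (e : P →+* R) (he : e.Finite) {d : ℕ} (hP : ringKrullDim P ≤ d) (hR : d ≤ ringKrullDim R) :
    Function.Injective e := by
  by_contra hne
  rw [injective_iff_map_eq_zero] at hne
  push Not at hne
  obtain ⟨x, hx, hx0⟩ := hne
  let _ := (RingHom.kerLift e).toAlgebra
  have hfin : (RingHom.kerLift e).Finite := by
    refine RingHom.Finite.of_comp_finite (f := Ideal.Quotient.mk (RingHom.ker e)) ?_
    rwa [show (RingHom.kerLift e).comp (Ideal.Quotient.mk (RingHom.ker e)) = e from RingHom.ext fun _ => rfl]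
  have : Module.Finite (P ⧸ RingHom.ker e) R := hfin
  have h1 := DimTrdeg.ringKrullDim_eq_of_isIntegral (P ⧸ RingHom.ker e) R
    (RingHom.kerLift_injective e)
  have h2 : ringKrullDim (P ⧸ RingHom.ker e) ≤ ringKrullDim (P ⧸ Ideal.span {x}) :=
    ringKrullDim_le_of_surjective (Ideal.Quotient.factor
      ((Ideal.span_singleton_le_iff_mem (I := RingHom.ker e)).mpr hx))
      (Ideal.Quotient.factor_surjective _)
  have h3 := ringKrullDim_quotient_succ_le_of_nonZeroDivisor
    (mem_nonZeroDivisors_of_ne_zero hx0)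
  have h4 : (d : WithBot ℕ∞) + 1 ≤ d :=
    (add_le_add (hR.trans (h1.le.trans h2)) le_rfl).trans (h3.trans hP)
  norm_cast at h4
  omega

/-- **Cohen structure theorem** for domains, finite injective form. -/
theorem exists_finite_injective (R : Type u) [CommRing R] [IsDomain R] [IsLocalRing R]
    [IsNoetherianRing R] [IsAdicComplete (maximalIdeal R) R] :
    ∃ (Λ : Type u) (_ : CommRing Λ) (n : ℕ) (f : MvPowerSeries (Fin n) Λ →+* R),
      (IsField Λ ∨ CAlg.IsCohenRing Λ) ∧ Function.Injective f ∧ f.Finite ∧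
      Function.Surjective ((residue R).comp f) := by
  classical
  obtain ⟨Λ, _, _, _, φ, hN, hsurj, hΛ⟩ := exists_coefficientRing R
  have hres : ∀ {n : ℕ} (a : Fin n → R) (ham : ∀ i, a i ∈ maximalIdeal R),
      Function.Surjective ((residue R).comp (evalPS (maximalIdeal R) φ a ham)) := fun a ham x => by
    obtain ⟨c, hc⟩ := hsurj x
    exact ⟨MvPowerSeries.C c, by rw [RingHom.comp_apply, evalPS_C]; exact hc⟩
  have hquot : ∀ (I : Ideal R), I ≤ maximalIdeal R → ∀ N, maximalIdeal R ^ N ≤ I →
      ((Ideal.Quotient.mk I).comp φ).Finite := by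
    intro I hI N hN
    have : Nontrivial (R ⧸ I) :=
      Ideal.Quotient.nontrivial_iff.mpr (ne_top_of_le_ne_top (maximalIdeal.isMaximal R).ne_top hI)
    have : IsLocalRing (R ⧸ I) := .of_surjective' (Ideal.Quotient.mk I) Ideal.Quotient.mk_surjective
    have hmax : maximalIdeal (R ⧸ I) = (maximalIdeal R).map (Ideal.Quotient.mk I) :=
      (map_maximalIdeal_of_surjective _ Ideal.Quotient.mk_surjective).symm
    refine finite_of_pow_maximalIdeal_eq_bot (IsNoetherian.noetherian _) _ (fun y => ?_) (N := N) ?_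
    · obtain ⟨y, rfl⟩ := residue_surjective y
      obtain ⟨y, rfl⟩ := Ideal.Quotient.mk_surjective y
      obtain ⟨c, hc⟩ := hsurj (residue R y)
      refine ⟨c, ?_⟩
      rw [RingHom.comp_apply, RingHom.comp_apply, ← sub_eq_zero, ← map_sub, ← map_sub,
        residue_eq_zero_iff, hmax]
      refine Ideal.mem_map_of_mem _ ?_
      rw [← residue_eq_zero_iff, map_sub, ← RingHom.comp_apply, hc, sub_self]
    · rw [hmax, ← Ideal.map_pow, eq_bot_iff, ← Ideal.map_quotient_self I]
      exact Ideal.map_mono hN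
  have hdom : ∀ m : ℕ, IsDomain (MvPowerSeries (Fin m) Λ) := fun m => NoZeroDivisors.to_isDomain _
  rcases hΛ with hF | ⟨hC, p, hp, hmaxΛ, hpR, hpm⟩
  · obtain ⟨d, a, N, hd, ham, hNle⟩ := exists_parameters R
    have hfin := evalPS_finite φ a ham (hquot _ (Ideal.span_le.mpr (Set.range_subset_iff.mpr ham))
      N hNle)
    have hdim := ringKrullDim_mvPowerSeries_le (Λ := Λ) d ∅
      (by rw [Finset.coe_empty, Ideal.span_empty]; exact isField_iff_maximalIdeal_eq.mp hF)
    exact ⟨Λ, inferInstance, d, _, Or.inl hF, injective_of_finite_of_dim _ hfin (by simpa using hdim)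
      hd.ge, hfin, hres a ham⟩
  · set I : Ideal R := Ideal.span {(p : R)} with hI
    have hIm : I ≤ maximalIdeal R := (Ideal.span_singleton_le_iff_mem _).mpr hpm
    have : Nontrivial (R ⧸ I) :=
      Ideal.Quotient.nontrivial_iff.mpr (ne_top_of_le_ne_top (maximalIdeal.isMaximal R).ne_top hIm)
    have : IsLocalRing (R ⧸ I) := .of_surjective' (Ideal.Quotient.mk I) Ideal.Quotient.mk_surjective
    obtain ⟨d, ab, N, hd, habm, hNle⟩ := exists_parameters (R ⧸ I)
    choose a ha using fun i => Ideal.Quotient.mk_surjective (ab i)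
    have hmax : (maximalIdeal R).map (Ideal.Quotient.mk I) = maximalIdeal (R ⧸ I) :=
      map_maximalIdeal_of_surjective _ Ideal.Quotient.mk_surjective
    have ham : ∀ i, a i ∈ maximalIdeal R := fun i => by
      by_contra hu
      rw [mem_maximalIdeal, mem_nonunits_iff, not_not] at hu
      exact (mem_maximalIdeal _).mp (habm i) (ha i ▸ hu.map _)
    set J : Ideal R := Ideal.span (Set.range a) with hJ
    have hJm : J ≤ maximalIdeal R := Ideal.span_le.mpr (Set.range_subset_iff.mpr ham)
    have hNle' : maximalIdeal R ^ N ≤ I ⊔ J := by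
      intro x hx
      have h1 : Ideal.Quotient.mk I x ∈ J.map (Ideal.Quotient.mk I) := by
        rw [hJ, Ideal.map_span, ← Set.range_comp, show (Ideal.Quotient.mk I) ∘ a = ab from funext ha]
        refine hNle ?_
        rw [← hmax, ← Ideal.map_pow]
        exact Ideal.mem_map_of_mem _ hx
      rwa [Ideal.mem_quotient_iff_mem_sup, sup_comm] at h1
    -- `R ⧸ J` is finite over the coefficient ring
    have hfinJ : ((Ideal.Quotient.mk J).comp φ).Finite := by
      obtain ⟨_, _, hcompl, -⟩ := hC
      have hmapI : (maximalIdeal Λ).map ((Ideal.Quotient.mk J).comp φ) =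
          I.map (Ideal.Quotient.mk J) := by
        rw [hmaxΛ, hI, Ideal.map_span, Ideal.map_span, Set.image_singleton, Set.image_singleton,
          map_natCast, map_natCast]
      have : Nontrivial (R ⧸ J) :=
        Ideal.Quotient.nontrivial_iff.mpr (ne_top_of_le_ne_top (maximalIdeal.isMaximal R).ne_top hJm)
      have : IsLocalRing (R ⧸ J) :=
        .of_surjective' (Ideal.Quotient.mk J) Ideal.Quotient.mk_surjective
      have hneI : I.map (Ideal.Quotient.mk J) ≠ ⊤ := by
        refine ne_top_of_le_ne_top (maximalIdeal.isMaximal (R ⧸ J)).ne_top ?_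
        exact (Ideal.map_mono hIm).trans
          (map_maximalIdeal_of_surjective _ Ideal.Quotient.mk_surjective).le
      have : IsHausdorff ((maximalIdeal Λ).map ((Ideal.Quotient.mk J).comp φ)) (R ⧸ J) := by
        rw [hmapI]; exact IsHausdorff.of_isLocalRing _ _ hneI
      refine finite_of_complete (maximalIdeal Λ) _ ?_
      let e : R ⧸ (I ⊔ J) ≃+* (R ⧸ J) ⧸ (maximalIdeal Λ).map ((Ideal.Quotient.mk J).comp φ) :=
        (((Ideal.quotEquivOfEq (sup_comm I J)).trans (DoubleQuot.quotQuotEquivQuotSup J I).symm)).trans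
          (Ideal.quotEquivOfEq hmapI.symm)
      have h2 : (e.toRingHom.comp ((Ideal.Quotient.mk (I ⊔ J)).comp φ)).Finite :=
        (RingHom.Finite.of_surjective _ e.surjective).comp
          (hquot _ (sup_le hIm hJm) N hNle')
      convert h2 using 1
      rfl
    have hfin := evalPS_finite φ a ham hfinJ
    have hdim := ringKrullDim_mvPowerSeries_le (Λ := Λ) d {(p : Λ)}
      (by rw [Finset.coe_singleton]; exact hmaxΛ)
    have hge : ((d + 1 : ℕ) : WithBot ℕ∞) ≤ ringKrullDim R := by
      have := ringKrullDim_quotient_succ_le_of_nonZeroDivisor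
        (mem_nonZeroDivisors_of_ne_zero hpR)
      rw [hd] at this
      exact_mod_cast this
    exact ⟨Λ, inferInstance, d, _, Or.inr hC,
      injective_of_finite_of_dim _ hfin (by simpa using hdim) hge, hfin, hres a ham⟩

end Groth.Agent.CohenStruct
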