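import Mathlib
import Groth.Prelude.Def_Found
import Groth.Agent.NagataLib.Basic
import Groth.Agent.NagataLib.Localization
import Groth.Agent.AdicLim.Filt

/-!
# Tate's lemma
-/

universe u

namespace Groth.Agent.CohenStruct

open Groth.Agent

/-- A domain integral over an N-2 domain, with `q`-th powers in it and bounded rank, is finite. -/
theorem finite_of_radicial {A T : Type u} [CommRing A] [IsDomain A] [IsNoetherianRing A]
    [CommRing T] [IsDomain T] [Algebra A T] [Algebra.IsIntegral A T]
    (hinj : Function.Injective (algebraMap A T)) (h2 : CAlg.IsN2 A) (q : ℕ) (hq : q ≠ 0)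
    (hpow : ∀ t : T, ∃ r, t ^ q = algebraMap A T r) (n : ℕ)
    (hcard : ∀ (m : ℕ) (a : Fin m → T), LinearIndependent A a → m ≤ n) :
    Module.Finite A T := by
  classical
  let F := FractionRing A
  let M := FractionRing T
  have : FaithfulSMul A M := by
    rw [faithfulSMul_iff_algebraMap_injective, IsScalarTower.algebraMap_eq A T M]
    exact (IsFractionRing.injective T M).comp hinj
  let : Algebra F M := FractionRing.liftAlgebra A M
  have : IsScalarTower A F M := FractionRing.isScalarTower_liftAlgebra A M
  let img : Set M := Set.range (algebraMap T M)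
  have hspan : Submodule.span F img = ⊤ := by
    refine eq_top_iff.mpr fun z _ => ?_
    obtain ⟨s, t, ht, rfl⟩ := IsFractionRing.div_surjective T z
    obtain ⟨r, hr⟩ := hpow t
    have ht0 : algebraMap T M t ≠ 0 :=
      (map_ne_zero_iff _ (IsFractionRing.injective T M)).mpr (nonZeroDivisors.ne_zero ht)
    have key : algebraMap T M s / algebraMap T M t =
        (algebraMap A F r)⁻¹ • algebraMap T M (s * t ^ (q - 1)) := by
      rw [Algebra.smul_def, map_inv₀, ← IsScalarTower.algebraMap_apply A F M,
        IsScalarTower.algebraMap_apply A T M, ← hr, map_pow, map_mul, map_pow]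
      conv_rhs => rw [← Nat.sub_add_cancel (Nat.pos_of_ne_zero hq), pow_succ, Nat.add_sub_cancel]
      rw [inv_mul_eq_div, mul_comm (algebraMap T M s), mul_div_mul_left _ _ (pow_ne_zero _ ht0)]
    rw [key]
    exact Submodule.smul_mem _ _ (Submodule.subset_span ⟨_, rfl⟩)
  have : FiniteDimensional F M := by
    obtain ⟨b, hb, hbspan, hli⟩ := exists_linearIndependent F img
    have hbfin : b.Finite := by
      by_contra hinf
      obtain ⟨t, ht, htc⟩ := Set.Infinite.exists_subset_card_eq hinf (n + 1)
      let ε : Fin t.card → b := fun i => ⟨(t.equivFin.symm i : M), ht (t.equivFin.symm i).2⟩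
      have hε : Function.Injective ε := fun i j h =>
        t.equivFin.symm.injective (Subtype.ext (congrArg Subtype.val h :))
      choose a ha using fun i => (hb (ε i).2 : (ε i : M) ∈ img)
      have hliM : LinearIndependent A (fun i => algebraMap T M (a i)) := by
        simp only [ha]
        refine (hli.comp ε hε).restrict_scalars ?_
        intro r s hrs
        apply IsFractionRing.injective A F
        simpa [Algebra.smul_def] using hrs
      have hliT : LinearIndependent A a :=
        LinearIndependent.of_comp (IsScalarTower.toAlgHom A T M).toLinearMap hliM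
      have := hcard _ a hliT
      omega
    exact ⟨⟨hbfin.toFinset, by rw [Set.Finite.coe_toFinset, hbspan, hspan]⟩⟩
  have hfin := NagataLib.finite_integralClosure_of_isN2 h2 F M
  let j : T →ₗ[A] integralClosure A M :=
    { toFun := fun t => ⟨algebraMap T M t,
        (Algebra.IsIntegral.isIntegral (R := A) t).map (IsScalarTower.toAlgHom A T M)⟩
      map_add' := fun _ _ => Subtype.ext (map_add _ _ _)
      map_smul' := fun r t => Subtype.ext
        ((IsScalarTower.toAlgHom A T M).toLinearMap.map_smul r t) }
  exact Module.Finite.of_injective j fun s t h =>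
    IsFractionRing.injective T M (congrArg Subtype.val h :)

variable {R : Type u} [CommRing R] [IsDomain R] [IsNoetherianRing R] [IsIntegrallyClosed R]
  (x : R) [(Ideal.span ({x} : Set R)).IsPrime] [IsAdicComplete (Ideal.span ({x} : Set R)) R]
  (K L : Type u) [Field K] [Algebra R K] [IsFractionRing R K] [Field L] [Algebra R L] [Algebra K L]
  [IsScalarTower R K L] [FiniteDimensional K L]

omit [IsDomain R] [IsNoetherianRing R] [IsIntegrallyClosed R] in
/-- Independence modulo `x` implies independence over the fraction field. -/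
theorem card_le_finrank [IsDomain R] (hx0 : x ≠ 0) (S : Subalgebra R L) {T : Type*} [CommRing T]
    [Algebra R T] (f : S →ₐ[R] T) (m : ℕ) (a : Fin m → S)
    (hli : ∀ c : Fin m → R, ∑ i, c i • f (a i) = 0 → ∀ i, c i ∈ Ideal.span ({x} : Set R)) :
    m ≤ Module.finrank K L := by
  have hinj : Function.Injective (algebraMap R L) := by
    rw [IsScalarTower.algebraMap_eq R K L]
    exact (algebraMap K L).injective.comp (IsFractionRing.injective R K)
  have hlK : LinearIndependent K (fun i => (a i : L)) := by
    rw [← LinearIndependent.iff_fractionRing (R := R), Fintype.linearIndependent_iff]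
    intro g hg
    have hall : ∀ (n : ℕ) i, g i ∈ Ideal.span ({x} : Set R) ^ n := by
      intro n
      induction n with
      | zero => simp
      | succ n ih =>
        have ih' : ∀ i, ∃ c, g i = x ^ n * c := fun i => by
          have := ih i
          rw [Ideal.span_singleton_pow, Ideal.mem_span_singleton] at this
          exact this
        choose c hc using ih'
        have h0 : ∑ i, c i • (a i : L) = 0 := by
          have hxn : algebraMap R L (x ^ n) ≠ 0 :=
            (map_ne_zero_iff _ hinj).mpr (pow_ne_zero _ hx0)
          apply mul_left_cancel₀ hxn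
          rw [mul_zero, Finset.mul_sum]
          convert hg using 1
          refine Finset.sum_congr rfl fun i _ => ?_
          rw [Algebra.smul_def, Algebra.smul_def, ← mul_assoc, ← map_mul, ← hc]
        have h1 : ∑ i, c i • a i = 0 := Subtype.ext (by simpa using h0)
        have h2 := congrArg f h1
        simp only [map_sum, map_smul, map_zero] at h2
        intro i
        rw [hc i, pow_succ]
        exact Ideal.mul_mem_mul (by rw [Ideal.span_singleton_pow]; exact Ideal.subset_span rfl)
          (hli c h2 i)
    intro i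
    exact IsHausdorff.haus (I := Ideal.span ({x} : Set R)) inferInstance (g i) fun n =>
      SModEq.zero.mpr (by simpa using hall n i)
  simpa using hlK.fintype_card_le_finrank

set_option synthInstance.maxHeartbeats 100000 in
set_option maxHeartbeats 1000000 in
/-- Tate's lemma for a purely inseparable extension containing a `q`-th root of `x`. -/
theorem finite_integralClosure_of_root (h2 : CAlg.IsN2 (R ⧸ Ideal.span ({x} : Set R))) (hx0 : x ≠ 0)
    (p e : ℕ) [ExpChar L p] (hpow : ∀ z : L, z ^ p ^ e ∈ (algebraMap K L).range) (y : L)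
    (hy : y ^ p ^ e = algebraMap R L x) : Module.Finite R (integralClosure R L) := by
  classical
  set q := p ^ e with hq
  have hq0 : q ≠ 0 := pow_ne_zero _ (expChar_pos L p).ne'
  set P := Ideal.span ({x} : Set R) with hP
  set S := integralClosure R L with hS
  have hinj : Function.Injective (algebraMap R L) := by
    rw [IsScalarTower.algebraMap_eq R K L]
    exact (algebraMap K L).injective.comp (IsFractionRing.injective R K)
  have hy0 : y ≠ 0 := by
    intro h
    rw [h, zero_pow hq0] at hy
    exact hx0 (hinj (by rw [← hy, map_zero]))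
  -- the `q`-th power map `S → R`
  have hSpow : ∀ a : S, ∃ r : R, algebraMap R L r = (a : L) ^ q := by
    intro a
    obtain ⟨k, hk⟩ := hpow a
    have hint : IsIntegral R k := by
      rw [← isIntegral_algebraMap_iff (B := L) (algebraMap K L).injective, hk]
      exact IsIntegral.pow a.2 q
    obtain ⟨r, rfl⟩ := IsIntegrallyClosed.isIntegral_iff.mp hint
    exact ⟨r, by rw [IsScalarTower.algebraMap_apply R K L, hk]⟩
  choose ρ' hρ using hSpow
  let ρ : S →+* R :=
    { toFun := ρ'
      map_one' := hinj (by rw [hρ]; simp)
      map_mul' := fun a b => hinj (by rw [hρ, map_mul, hρ, hρ]; simp [mul_pow])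
      map_zero' := hinj (by rw [hρ]; simp [zero_pow hq0])
      map_add' := fun a b => hinj (by
        rw [hρ, map_add, hρ, hρ, Subalgebra.coe_add, add_pow_expChar_pow (R := L)]) }
  have hρ' : ∀ a : S, algebraMap R L (ρ a) = (a : L) ^ q := hρ
  have hρalg : ∀ r : R, ρ (algebraMap R S r) = r ^ q := fun r => hinj (by
    rw [hρ', map_pow]; rfl)
  let π : S →+* R ⧸ P := (Ideal.Quotient.mk P).comp ρ
  let Q := RingHom.ker π
  let yS : S := ⟨y, IsIntegral.of_pow (Nat.pos_of_ne_zero hq0) (hy ▸ isIntegral_algebraMap)⟩
  have hyq : yS ^ q = algebraMap R S x := Subtype.ext (by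
    rw [Subalgebra.coe_pow]; exact hy)
  have hQy : ∀ a, a ∈ Q → ∃ b, a = yS * b := by
    intro a ha
    rw [RingHom.mem_ker, RingHom.comp_apply, Ideal.Quotient.eq_zero_iff_mem,
      Ideal.mem_span_singleton'] at ha
    obtain ⟨r, hr⟩ := ha
    have hb : IsIntegral R ((a : L) / y) := by
      refine IsIntegral.of_pow (Nat.pos_of_ne_zero hq0) ?_
      rw [div_pow, ← hρ' a, hy, ← hr, map_mul, mul_div_assoc,
        div_self ((map_ne_zero_iff _ hinj).mpr hx0), mul_one]
      exact isIntegral_algebraMap
    exact ⟨⟨_, hb⟩, Subtype.ext (by simp only [Subalgebra.coe_mul, yS]; field_simp)⟩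
  have hQyS : yS ∈ Q := by
    rw [RingHom.mem_ker, RingHom.comp_apply, Ideal.Quotient.eq_zero_iff_mem]
    have : ρ yS = x := hinj (by rw [hρ']; exact hy)
    rw [this]; exact Ideal.subset_span rfl
  have : Q.IsPrime := RingHom.ker_isPrime π
  -- the quotient is finite over `R ⧸ P`
  let T := S ⧸ Q
  let iPT : R ⧸ P →+* T := Ideal.Quotient.lift P ((Ideal.Quotient.mk Q).comp (algebraMap R S))
    (fun r hr => by
      rw [RingHom.comp_apply, Ideal.Quotient.eq_zero_iff_mem, RingHom.mem_ker, RingHom.comp_apply,
        Ideal.Quotient.eq_zero_iff_mem, hρalg]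
      exact Ideal.pow_mem_of_mem _ hr _ (Nat.pos_of_ne_zero hq0))
  let : Algebra (R ⧸ P) T := iPT.toAlgebra
  have : IsScalarTower R (R ⧸ P) T := .of_algebraMap_eq fun r => rfl
  have hTinj : Function.Injective (algebraMap (R ⧸ P) T) := by
    rw [injective_iff_map_eq_zero]
    intro r hr
    obtain ⟨r, rfl⟩ := Ideal.Quotient.mk_surjective r
    change Ideal.Quotient.mk Q (algebraMap R S r) = 0 at hr
    rw [Ideal.Quotient.eq_zero_iff_mem, RingHom.mem_ker, RingHom.comp_apply,
      Ideal.Quotient.eq_zero_iff_mem, hρalg] at hr
    exact Ideal.Quotient.eq_zero_iff_mem.mpr (Ideal.IsPrime.mem_of_pow_mem inferInstance _ hr)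
  have : Algebra.IsIntegral R S := ⟨fun a => by
    rw [← isIntegral_algHom_iff S.val Subtype.val_injective]; exact a.2⟩
  have : Algebra.IsIntegral R T := ⟨fun t => by
    obtain ⟨a, rfl⟩ := Ideal.Quotient.mk_surjective t
    exact (Algebra.IsIntegral.isIntegral a).map (Ideal.Quotient.mkₐ R Q)⟩
  have : Algebra.IsIntegral (R ⧸ P) T := ⟨fun t => (Algebra.IsIntegral.isIntegral (R := R) t).tower_top⟩
  have hTpow : ∀ a : S, (Ideal.Quotient.mk Q a) ^ q = algebraMap (R ⧸ P) T (π a) := by
    intro a
    change _ = Ideal.Quotient.mk Q (algebraMap R S (ρ a))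
    rw [← map_pow]
    congr 1
    exact Subtype.ext (by rw [Subalgebra.coe_pow]; exact (hρ' a).symm)
  have hTfin : Module.Finite R T := by
    have hpowT : ∀ t : T, ∃ r : R ⧸ P, t ^ q = algebraMap (R ⧸ P) T r := fun t => by
      obtain ⟨a, rfl⟩ := Ideal.Quotient.mk_surjective t
      exact ⟨π a, hTpow a⟩
    have hcard : ∀ (m : ℕ) (t : Fin m → T), LinearIndependent (R ⧸ P) t →
        m ≤ Module.finrank K L := by
      intro m t hlit
      choose a ha using fun i => Ideal.Quotient.mk_surjective (t i)
      refine card_le_finrank x K L hx0 S (Ideal.Quotient.mkₐ R Q) m a fun c hc i => ?_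
      refine Ideal.Quotient.eq_zero_iff_mem.mp (Fintype.linearIndependent_iff.mp hlit
        (fun i => Ideal.Quotient.mk P (c i)) ((Finset.sum_congr rfl fun i _ => ?_).trans hc) i)
      rw [Ideal.Quotient.mkₐ_eq_mk, ha i]
      exact algebraMap_smul (R ⧸ P) (c i) (t i)
    have : Module.Finite (R ⧸ P) T := finite_of_radicial hTinj h2 q hq0 hpowT _ hcard
    exact Module.Finite.trans (R ⧸ P) T
  -- lift generators through the powers of `y`
  obtain ⟨m, g, hg⟩ := Module.Finite.exists_fin (R := R) (M := T)
  choose G hG using fun i => Ideal.Quotient.mk_surjective (g i)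
  let gens : ℕ → Set S := fun j => {z | ∃ i : Fin m, ∃ l < j, z = yS ^ l * G i}
  have hstep : ∀ j, ∀ a : S, ∃ n ∈ Submodule.span R (gens j), ∃ b, a = n + yS ^ j * b := by
    intro j
    induction j with
    | zero => exact fun a => ⟨0, zero_mem _, a, by simp⟩
    | succ j ih =>
      intro a
      obtain ⟨n, hn, b, rfl⟩ := ih a
      have hb : Ideal.Quotient.mk Q b ∈ Submodule.span R (Set.range g) := hg.symm ▸ trivial
      obtain ⟨c, hc⟩ := (Submodule.mem_span_range_iff_exists_fun R).mp hb
      have hmem : b - ∑ i, c i • G i ∈ Q := by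
        rw [← Ideal.Quotient.mk_eq_mk_iff_sub_mem]
        change Ideal.Quotient.mkₐ R Q b = Ideal.Quotient.mkₐ R Q _
        rw [map_sum]
        refine hc.symm.trans (Finset.sum_congr rfl fun i _ => ?_)
        rw [map_smul, ← hG i]; rfl
      obtain ⟨d, hd⟩ := hQy _ hmem
      refine ⟨n + ∑ i, c i • (yS ^ j * G i), ?_, d, ?_⟩
      · refine add_mem (Submodule.span_mono ?_ hn) (sum_mem fun i _ => Submodule.smul_mem _ _
          (Submodule.subset_span ⟨i, j, by omega, rfl⟩))
        rintro z ⟨i, l, hl, rfl⟩
        exact ⟨i, l, by omega, rfl⟩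
      · have e1 : b = (∑ i, c i • G i) + yS * d := by rw [← hd]; ring
        rw [e1, mul_add, Finset.mul_sum, pow_succ]
        simp only [mul_smul_comm]
        ring
  let r : Fin m × Fin q → S := fun il => yS ^ (il.2 : ℕ) * G il.1
  let f : (Fin m × Fin q → R) →ₗ[R] S := Fintype.linearCombination R r
  have : IsHausdorff P S := ⟨fun a ha => by
    have hn : ∀ n, ρ a ∈ P ^ n := by
      intro n
      have h1 := ha n
      rw [SModEq.zero] at h1
      refine Submodule.smul_induction_on h1 (fun r hr b _ => ?_) fun s t hs ht => by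
        rw [map_add]; exact add_mem hs ht
      rw [Algebra.smul_def, map_mul, hρalg]
      exact Ideal.mul_mem_right _ _ (Ideal.pow_mem_of_mem _ hr _ (Nat.pos_of_ne_zero hq0))
    have h0 : ρ a = 0 :=
      IsHausdorff.haus (I := P) inferInstance _ fun n => SModEq.zero.mpr (by simpa using hn n)
    have h1 := hρ' a
    rw [h0, map_zero] at h1
    exact Subtype.ext (pow_eq_zero_iff hq0 |>.mp h1.symm)⟩
  have := AdicLim.isPrecomplete_pi (I := P) (ι := Fin m × Fin q) R
  have hs : Function.Surjective f := by
    refine surjective_of_mkQ_comp_surjective (I := P) fun z => ?_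
    obtain ⟨z, rfl⟩ := Submodule.mkQ_surjective _ z
    obtain ⟨n, hn, b, rfl⟩ := hstep q z
    have hn' : n ∈ Submodule.span R (Set.range r) := by
      refine Submodule.span_mono ?_ hn
      rintro z ⟨i, l, hl, rfl⟩
      exact ⟨(i, ⟨l, hl⟩), rfl⟩
    obtain ⟨c, hc⟩ := (Submodule.mem_span_range_iff_exists_fun R).mp hn'
    refine ⟨c, ?_⟩
    rw [LinearMap.comp_apply, Submodule.mkQ_apply, Submodule.mkQ_apply, Submodule.Quotient.eq,
      show f c = n from (Fintype.linearCombination_apply R r c).trans hc, sub_add_cancel_left,
      hyq, ← Algebra.smul_def]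
    exact neg_mem (Submodule.smul_mem_smul (Ideal.subset_span rfl) trivial)
  exact Module.Finite.of_surjective f hs

omit [IsAdicComplete (Ideal.span ({x} : Set R)) R] in
/-- **Tate's lemma.** -/
theorem isN2_of_tate [IsAdicComplete (Ideal.span ({x} : Set R)) R]
    (h2 : CAlg.IsN2 (R ⧸ Ideal.span ({x} : Set R))) : CAlg.IsN2 R := by
  by_cases hx0 : x = 0
  · have hb : Ideal.span ({x} : Set R) = ⊥ := by rw [hx0]; simp
    exact NagataLib.isN2_of_ringEquiv
      ((Ideal.quotEquivOfEq hb).trans (RingEquiv.quotientBot R)) h2
  refine NagataLib.isN2_of_forall_purelyInseparable fun L _ _ _ _ hfd hpi => ?_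
  let K := FractionRing R
  let p := ringExpChar K
  have : ExpChar L p := expChar_of_injective_algebraMap (algebraMap K L).injective p
  let e := IsPurelyInseparable.exponent K L
  have hpow : ∀ z : L, z ^ p ^ e ∈ (algebraMap K L).range :=
    fun z => IsPurelyInseparable.exponent_def' K p z
  have hq0 : 0 < p ^ e := pow_pos (expChar_pos L p) _
  obtain ⟨y, hy⟩ := IsAlgClosed.exists_pow_nat_eq
    (algebraMap R (AlgebraicClosure L) x) hq0
  let E : IntermediateField L (AlgebraicClosure L) := IntermediateField.adjoin L {y}
  have hyint : IsIntegral L y := IsIntegral.of_pow hq0 (by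
    rw [hy, IsScalarTower.algebraMap_apply R L (AlgebraicClosure L)]
    exact isIntegral_algebraMap)
  have : FiniteDimensional L E := IntermediateField.adjoin.finiteDimensional hyint
  have : FiniteDimensional K E := Module.Finite.trans L E
  have : IsScalarTower R K E := .of_algebraMap_eq fun r => Subtype.ext
    (IsScalarTower.algebraMap_apply R K (AlgebraicClosure L) r)
  let yE : E := ⟨y, IntermediateField.mem_adjoin_simple_self L y⟩
  have hyE : yE ^ p ^ e = algebraMap R E x := Subtype.ext (by
    rw [IntermediateField.coe_pow]; exact hy)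
  have hpowE : ∀ z : E, z ^ p ^ e ∈ (algebraMap K E).range := by
    have : ExpChar E p := expChar_of_injective_algebraMap (algebraMap L E).injective p
    rintro ⟨z, hz⟩
    rw [← IntermediateField.mem_toSubalgebra,
      IntermediateField.adjoin_simple_toSubalgebra_of_isAlgebraic hyint.isAlgebraic,
      Algebra.adjoin_singleton_eq_range_aeval] at hz
    obtain ⟨f, hf⟩ := hz
    change Polynomial.aeval y f = z at hf
    subst hf
    have key : (Polynomial.aeval yE f) ^ p ^ e ∈ (algebraMap K E).range := by
      clear hz
      induction f using Polynomial.induction_on' with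
      | add f g hf hg => rw [map_add, add_pow_expChar_pow (R := E)]; exact add_mem hf hg
      | monomial n c =>
        rw [Polynomial.aeval_monomial, mul_pow, ← pow_mul, mul_comm n, pow_mul, hyE, ← map_pow,
          IsScalarTower.algebraMap_apply R K E]
        obtain ⟨k, hk⟩ := hpow c
        rw [← hk, ← IsScalarTower.algebraMap_apply K L E, ← map_pow, ← map_mul]
        exact ⟨_, rfl⟩
    convert key using 2
    exact Subtype.ext (Polynomial.aeval_algHom_apply E.val yE f)
  have : ExpChar E p := expChar_of_injective_algebraMap (algebraMap L E).injective p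
  have hE := finite_integralClosure_of_root x K E h2 hx0 p e hpowE yE hyE
  exact NagataLib.finite_integralClosure_of_algHom (IsScalarTower.toAlgHom R L E)
    (algebraMap L E).injective hE

end Groth.Agent.CohenStruct
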