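import Mathlib
import Groth.Prelude.Def_Found
import Groth.Agent.CohenStruct.Tate
import Groth.Agent.CohenStruct.Structure
import Groth.Agent.DepthLib.RegularNormal
import Groth.Agent.NagataLib.Basic

/-!
# Complete Noetherian local rings are Nagata
-/

universe u

namespace Groth.Agent.CohenStruct

open Groth.Agent IsLocalRing

noncomputable def quotSpanXEquiv (A : Type u) [CommRing A] :
    (PowerSeries A ⧸ Ideal.span ({PowerSeries.X} : Set (PowerSeries A))) ≃+* A :=
  (Ideal.quotEquivOfEq (show Ideal.span ({PowerSeries.X} : Set (PowerSeries A)) =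
    RingHom.ker (PowerSeries.constantCoeff (R := A)) by
      ext f; rw [Ideal.mem_span_singleton, PowerSeries.X_dvd_iff, RingHom.mem_ker])).trans
    (RingHom.quotientKerEquivOfSurjective fun a => ⟨PowerSeries.C a, by simp⟩)

theorem powerSeries_normal_and_isN2 (A : Type u) [CommRing A] [IsDomain A] [IsNoetherianRing A]
    [IsIntegrallyClosed A] [IsDomain (PowerSeries A)] (h : CAlg.IsN2 A) :
    IsIntegrallyClosed (PowerSeries A) ∧ CAlg.IsN2 (PowerSeries A) := by
  let e := quotSpanXEquiv A
  set I : Ideal (PowerSeries A) := Ideal.span {PowerSeries.X}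
  have hd : IsDomain (PowerSeries A ⧸ I) := MulEquiv.isDomain A e.toMulEquiv
  have hI : I.IsPrime := (Ideal.Quotient.isDomain_iff_prime I).mp hd
  have hN : IsNoetherianRing (PowerSeries A ⧸ I) := inferInstance
  have hnorm : IsIntegrallyClosed (PowerSeries A ⧸ I) := IsIntegrallyClosed.of_equiv e.symm
  have hX : Prime (PowerSeries.X : PowerSeries A) :=
    (Ideal.span_singleton_prime PowerSeries.X_ne_zero).mp hI
  have hjac : (PowerSeries.X : PowerSeries A) ∈ (⊥ : Ideal (PowerSeries A)).jacobson := by
    rw [Ideal.mem_jacobson_bot]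
    intro y
    rw [PowerSeries.isUnit_iff_constantCoeff]
    simp
  have h1 : IsIntegrallyClosed (PowerSeries A) :=
    DepthLib.isIntegrallyClosed_iff_isCIC.mpr (DepthLib.isCIC_of_prime hX hjac
      (DepthLib.isIntegrallyClosed_iff_isCIC.mp hnorm))
  exact ⟨h1, isN2_of_tate PowerSeries.X (NagataLib.isN2_of_ringEquiv e.symm h)⟩

theorem mvPowerSeries_normal_and_isN2 (A : Type u) [CommRing A] [IsDomain A] [IsNoetherianRing A]
    [IsIntegrallyClosed A] (h : CAlg.IsN2 A) :
    ∀ (n : ℕ), ∃ (_ : IsDomain (MvPowerSeries (Fin n) A)),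
      IsIntegrallyClosed (MvPowerSeries (Fin n) A) ∧ CAlg.IsN2 (MvPowerSeries (Fin n) A) := by
  intro n
  induction n with
  | zero =>
    let e := (MvPowerSeries.isEmptyEquiv (Fin 0) A).toRingEquiv.symm
    have : IsDomain (MvPowerSeries (Fin 0) A) := MulEquiv.isDomain A e.symm.toMulEquiv
    exact ⟨this, IsIntegrallyClosed.of_equiv e, NagataLib.isN2_of_ringEquiv e h⟩
  | succ n ih =>
    obtain ⟨_, hn, hn2⟩ := ih
    have : IsDomain (PowerSeries (MvPowerSeries (Fin n) A)) := NoZeroDivisors.to_isDomain _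
    obtain ⟨h1, h2⟩ := powerSeries_normal_and_isN2 (MvPowerSeries (Fin n) A) hn2
    let e := (MvPowerSeries.finSuccEquiv A n).toRingEquiv.symm
    have : IsDomain (MvPowerSeries (Fin (n + 1)) A) :=
      MulEquiv.isDomain (PowerSeries (MvPowerSeries (Fin n) A)) e.symm.toMulEquiv
    exact ⟨this, IsIntegrallyClosed.of_equiv e, NagataLib.isN2_of_ringEquiv e h2⟩

/-- Complete Noetherian local domains are N-2. -/
theorem isN2_of_complete (R : Type u) [CommRing R] [IsDomain R] [IsLocalRing R]
    [IsNoetherianRing R] [IsAdicComplete (maximalIdeal R) R] : CAlg.IsN2 R := by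
  obtain ⟨Λ, _, n, f, hΛ, hinj, hfin, -⟩ := exists_finite_injective R
  obtain ⟨_, _, _, h⟩ : ∃ (_ : IsDomain Λ) (_ : IsNoetherianRing Λ) (_ : IsIntegrallyClosed Λ),
      CAlg.IsN2 Λ := by
    rcases hΛ with hF | hC
    · let := hF.toField
      exact ⟨inferInstance, inferInstance, inferInstance, NagataLib.isN2_of_field Λ⟩
    · obtain ⟨hd, hdvr, hcompl, p, -, hmax⟩ := hC
      have : (Ideal.span {(p : Λ)}).IsMaximal := hmax ▸ maximalIdeal.isMaximal Λ
      have : IsAdicComplete (Ideal.span {(p : Λ)}) Λ := hmax ▸ hcompl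
      have h2 : CAlg.IsN2 (Λ ⧸ Ideal.span {(p : Λ)}) := by
        let := Ideal.Quotient.field (Ideal.span {(p : Λ)})
        exact NagataLib.isN2_of_field _
      exact ⟨hd, inferInstance, inferInstance, isN2_of_tate (p : Λ) h2⟩
  obtain ⟨_, _, h2⟩ := mvPowerSeries_normal_and_isN2 Λ h n
  let := f.toAlgebra
  have : Module.Finite (MvPowerSeries (Fin n) Λ) R := hfin
  exact NagataLib.isN2_of_finite (A := MvPowerSeries (Fin n) Λ) hinj h2

/-- Complete Noetherian local rings are Nagata. -/
theorem isNagata_of_complete (R : Type u) [CommRing R] [IsLocalRing R]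
    [IsNoetherianRing R] [IsAdicComplete (maximalIdeal R) R] : CAlg.IsNagata R := by
  refine ⟨inferInstance, fun p _ => ?_⟩
  have : IsLocalRing (R ⧸ p) := .of_surjective' (Ideal.Quotient.mk p) Ideal.Quotient.mk_surjective
  have : IsAdicComplete (maximalIdeal (R ⧸ p)) (R ⧸ p) := by
    rw [← map_maximalIdeal_of_surjective (Ideal.Quotient.mk p) Ideal.Quotient.mk_surjective]
    exact AdicLim.isAdicComplete_quotient p
  exact isN2_of_complete (R ⧸ p)

end Groth.Agent.CohenStruct

namespace Groth.Agent.CohenStruct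

open IsLocalRing

/-- The completion of a Noetherian local ring is Noetherian. -/
theorem isNoetherianRing_completion (A : Type u) [CommRing A] [IsLocalRing A] [IsNoetherianRing A] :
    IsNoetherianRing (AdicCompletion (maximalIdeal A) A) := by
  have hfg : (maximalIdeal (AdicCompletion (maximalIdeal A) A)).FG := by
    rw [AdicCompletion.maximalIdeal_eq_map]
    exact Ideal.FG.map (IsNoetherian.noetherian _) _
  let := Ideal.Quotient.field (maximalIdeal (AdicCompletion (maximalIdeal A) A))
  exact AdicLim.isNoetherianRing_of_isAdicComplete hfg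

end Groth.Agent.CohenStruct
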