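import Groth.Prelude.Def_EGA41
import Groth.Agent.CohenStruct.Lift
import Groth.Agent.CohenStruct.Existence
import Mathlib

/-!
# Cohen rings in the sense of EGA: lifting properties
-/

universe u

namespace Groth.Agent.CohenStruct

open IsLocalRing

/-- A truncation step in residue characteristic `p`. -/
theorem exists_lift_nilpotent_of_cohen (p : ℕ) [Fact p.Prime] {W : Type u} [CommRing W]
    [IsDomain W] [CharZero W] (hmax : (Ideal.span {(p : W)}).IsMaximal) {S S' : Type u} [CommRing S]
    [CommRing S'] (π : S →+* S') (hπ : Function.Surjective π) (hker : IsNilpotent (RingHom.ker π))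
    (hp : IsNilpotent (p : S)) (g : W →+* S') :
    ∃ g' : W →+* S, π.comp g' = g := by
  obtain ⟨N, hN⟩ := hp
  have hN' : (p : S) ^ (N + 1) = 0 := by rw [pow_succ, hN, zero_mul]
  have hkill : ∀ {T : Type u} [CommRing T], (p : T) ^ (N + 1) = 0 → ∀ (f : ℤ →+* T),
      ∀ x ∈ intPow p (N + 1), f x = 0 := by
    intro T _ hT f x hx
    obtain ⟨y, rfl⟩ := Ideal.mem_span_singleton'.mp hx
    rw [map_mul, map_pow, map_natCast, hT, mul_zero]
  have hN'' : (p : S') ^ (N + 1) = 0 := by rw [← map_natCast π, ← map_pow, hN', map_zero]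
  let cS : ℤ ⧸ intPow p (N + 1) →+* S :=
    Ideal.Quotient.lift _ (Int.castRingHom S) (hkill hN' _)
  let cS' : ℤ ⧸ intPow p (N + 1) →+* S' :=
    Ideal.Quotient.lift _ (Int.castRingHom S') (hkill hN'' _)
  let := cS.toAlgebra
  let := cS'.toAlgebra
  have hg : ∀ x ∈ (intPow p (N + 1)).map (algebraMap ℤ W), g x = 0 := by
    intro x hx
    rw [map_intPow] at hx
    obtain ⟨y, rfl⟩ := Ideal.mem_span_singleton'.mp hx
    rw [map_mul, map_pow, map_natCast, hN'', mul_zero]
  let gb : Trunc p W (N + 1) →ₐ[ℤ ⧸ intPow p (N + 1)] S' :=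
    { Ideal.Quotient.lift _ g hg with
      commutes' := fun a => RingHom.congr_fun
        (Ideal.Quotient.ringHom_ext (RingHom.ext_int _ _) :
          (Ideal.Quotient.lift _ g hg).comp (algebraMap (ℤ ⧸ intPow p (N + 1)) (Trunc p W (N + 1))) =
            cS') a }
  let q : S →ₐ[ℤ ⧸ intPow p (N + 1)] S' :=
    { π with
      commutes' := fun a => RingHom.congr_fun
        (Ideal.Quotient.ringHom_ext (RingHom.ext_int _ _) : π.comp cS = cS') a }
  have := formallySmooth_trunc p W hmax N
  exact ⟨(Algebra.FormallySmooth.liftOfSurjective gb q hπ hker).toRingHom.comp (Ideal.Quotient.mk _),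
    RingHom.ext fun x => Algebra.FormallySmooth.liftOfSurjective_apply gb q hπ hker _⟩

/-- A truncation step in characteristic zero. -/
theorem exists_lift_nilpotent_of_charZero {k : Type u} [Field k] [CharZero k] {S S' : Type u}
    [CommRing S] [CommRing S'] (π : S →+* S') (hπ : Function.Surjective π)
    (hker : IsNilpotent (RingHom.ker π)) (g : k →+* S') :
    ∃ g' : k →+* S, π.comp g' = g := by
  have hunit : ∀ y : nonZeroDivisors ℤ, IsUnit (Int.castRingHom S y) := by
    intro y
    have h1 : IsUnit (π (Int.castRingHom S y)) := by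
      rw [show π (Int.castRingHom S y) = g ((y : ℤ) : k) by simp]
      exact (Ne.isUnit (Int.cast_ne_zero.mpr (nonZeroDivisors.coe_ne_zero y))).map g
    obtain ⟨t, ht⟩ := h1
    obtain ⟨s, hs⟩ := hπ (↑t⁻¹ : S')
    have h2 : IsNilpotent (Int.castRingHom S y * s - 1) := by
      obtain ⟨n, hn⟩ := hker
      refine ⟨n, ?_⟩
      have : Int.castRingHom S y * s - 1 ∈ RingHom.ker π := by
        rw [RingHom.mem_ker, map_sub, map_mul, map_one, hs, ← ht, Units.mul_inv, sub_self]
      simpa [hn] using Ideal.pow_mem_pow this n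
    have h3 := h2.isUnit_one_add
    rw [add_sub_cancel] at h3
    exact isUnit_of_mul_isUnit_left h3
  let cS : ℚ →+* S := IsLocalization.lift (M := nonZeroDivisors ℤ) hunit
  let := cS.toAlgebra
  let := (π.comp cS).toAlgebra
  have : Algebra.FormallySmooth ℚ k := by
    obtain ⟨s, hs⟩ := exists_isTranscendenceBasis ℚ k
    have : Algebra.IsAlgebraic (IntermediateField.adjoin ℚ (Set.range (Subtype.val : s → k))) k :=
      hs.isAlgebraic_field
    have : CharZero (IntermediateField.adjoin ℚ (Set.range (Subtype.val : s → k))) :=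
      charZero_of_injective_algebraMap (R := ℚ) (RingHom.injective _)
    exact Algebra.FormallySmooth.of_algebraicIndependent_of_isSeparable hs.1
  let ga : k →ₐ[ℚ] S' :=
    { g with
      commutes' := fun a => RingHom.congr_fun
        (Subsingleton.elim (g.comp (algebraMap ℚ k)) (π.comp cS)) a }
  let q : S →ₐ[ℚ] S' := { π with commutes' := fun _ => rfl }
  exact ⟨(Algebra.FormallySmooth.liftOfSurjective ga q hπ hker).toRingHom,
    RingHom.ext fun x => Algebra.FormallySmooth.liftOfSurjective_apply ga q hπ hker x⟩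

/-- The maximal ideal of a Cohen ring and basic properties. -/
theorem cohen_props {W : Type u} [CommRing W] [IsLocalRing W] (hW : CAlg.IsCohenRing W) :
    ∃ (_ : IsDomain W) (p : ℕ), p.Prime ∧ maximalIdeal W = Ideal.span {(p : W)} ∧ (p : W) ≠ 0 ∧
      CharZero W ∧ IsAdicComplete (maximalIdeal W) W ∧ IsDiscreteValuationRing W := by
  obtain ⟨hd, hdvr, hc, p, hp, hmax⟩ := hW
  refine ⟨hd, p, hp, hmax, ?_⟩
  have hp0 : (p : W) ≠ 0 := fun h => by
    rw [h, Ideal.span_singleton_eq_bot.mpr rfl] at hmax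
    exact hdvr.not_a_field' hmax
  refine ⟨hp0, ?_, hc, hdvr⟩
  obtain ⟨q, hq⟩ := CharP.exists W
  rcases CharP.char_is_prime_or_zero W q with hq' | rfl
  · exfalso
    rcases eq_or_ne q p with rfl | hne
    · exact hp0 (CharP.cast_eq_zero W q)
    · have hcop : Nat.Coprime q p := (Nat.coprime_primes hq' hp).mpr hne
      have h1 : (p : W) ∈ maximalIdeal W := hmax ▸ Ideal.subset_span rfl
      obtain ⟨a, b, hab⟩ : ∃ a b : ℤ, a * q + b * p = 1 := Int.isCoprime_iff_nat_coprime.mpr (by simpa using hcop)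
      have h2 : ((a * q + b * p : ℤ) : W) ∈ maximalIdeal W := by
        push_cast
        rw [CharP.cast_eq_zero W q, mul_zero, zero_add]
        exact Ideal.mul_mem_left _ _ h1
      rw [hab, Int.cast_one] at h2
      exact (maximalIdeal.isMaximal W).ne_top ((Ideal.eq_top_iff_one _).mpr h2)
  · exact CharP.charP_to_charZero W

/-- **Lifting along quotients of complete Noetherian local rings.** -/
theorem exists_lift_quotient {W C : Type u} [CommRing W] [IsLocalRing W]
    (hW : EGA41.IsCohenRingEGA W) [CommRing C] [IsLocalRing C] [IsNoetherianRing C]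
    [IsAdicComplete (maximalIdeal C) C] (J : Ideal C) (hJ : J ≠ ⊤) [IsLocalRing (C ⧸ J)]
    (u : W →+* C ⧸ J) [IsLocalHom u] :
    ∃ v : W →+* C, IsLocalHom v ∧ (Ideal.Quotient.mk J).comp v = u := by
  classical
  set m := maximalIdeal C with hm
  have hJm : J ≤ m := le_maximalIdeal hJ
  have step : ∀ (S S' : Type u) [CommRing S] [CommRing S'] (π : S →+* S'),
      Function.Surjective π → IsNilpotent (RingHom.ker π) → ∀ (f : C →+* S) (n : ℕ),
      (∀ x ∈ m, f x ^ n = 0) → ∀ g : W →+* S', ∃ g' : W →+* S, π.comp g' = g := by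
    intro S S' _ _ π hπ hker f n hf g
    rcases hW with ⟨hF, hc⟩ | hC
    · let := hF.toField
      exact exists_lift_nilpotent_of_charZero π hπ hker g
    · obtain ⟨_, p, hp, hmax, -, _, -⟩ := cohen_props hC
      have : Fact p.Prime := ⟨hp⟩
      refine exists_lift_nilpotent_of_cohen p (hmax ▸ maximalIdeal.isMaximal W) π hπ hker ?_ g
      have h1 : (p : W) ∈ maximalIdeal W := hmax ▸ Ideal.subset_span rfl
      have h2 : (p : C) ∈ m := by
        have := ((local_hom_TFAE u).out 0 4).mp ‹_›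
        have h3 : u (p : W) ∈ maximalIdeal (C ⧸ J) := by
          rw [← Ideal.mem_comap, this]; exact h1
        rw [map_natCast, ← map_natCast (Ideal.Quotient.mk J)] at h3
        by_contra hu
        exact h3 (((notMem_maximalIdeal).mp hu).map _)
      exact ⟨n, by rw [← map_natCast f]; exact hf _ h2⟩
  let red : ∀ n, C ⧸ J →+* C ⧸ (J ⊔ m ^ n) := fun n => Ideal.Quotient.factor le_sup_left
  let pr : ∀ n, C ⧸ m ^ n →+* C ⧸ (J ⊔ m ^ n) := fun n => Ideal.Quotient.factor le_sup_right
  have next : ∀ n (g : W →+* C ⧸ m ^ (n + 1)), (pr (n + 1)).comp g = (red (n + 1)).comp u →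
      ∃ g' : W →+* C ⧸ m ^ (n + 1 + 1), (pr (n + 1 + 1)).comp g' = (red (n + 1 + 1)).comp u ∧
        (Ideal.Quotient.factorPow m (Nat.le_add_right (n + 1) 1)).comp g' = g := by
    intro n g hg
    set K : Ideal C := m ^ (n + 1) ⊓ (J ⊔ m ^ (n + 1 + 1)) with hK
    let i1 : C ⧸ K →+* C ⧸ m ^ (n + 1) := Ideal.Quotient.factor inf_le_left
    let i2 : C ⧸ K →+* C ⧸ (J ⊔ m ^ (n + 1 + 1)) := Ideal.Quotient.factor inf_le_right
    have hinj : Function.Injective (i1.prod i2) := by
      rw [injective_iff_map_eq_zero]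
      intro x hx
      obtain ⟨c, rfl⟩ := Ideal.Quotient.mk_surjective x
      obtain ⟨h1, h2⟩ := Prod.mk.inj hx
      exact Ideal.Quotient.eq_zero_iff_mem.mpr
        ⟨Ideal.Quotient.eq_zero_iff_mem.mp h1, Ideal.Quotient.eq_zero_iff_mem.mp h2⟩
    have hmem : ∀ w, (g.prod ((red (n + 1 + 1)).comp u)) w ∈ (i1.prod i2).range := by
      intro w
      obtain ⟨a, ha⟩ := Ideal.Quotient.mk_surjective (g w)
      obtain ⟨b, hb⟩ := Ideal.Quotient.mk_surjective (u w)
      have hab : a - b ∈ m ^ (n + 1) ⊔ (J ⊔ m ^ (n + 1 + 1)) := by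
        have := RingHom.congr_fun hg w
        rw [RingHom.comp_apply, RingHom.comp_apply, ← ha, ← hb] at this
        have h1 : a - b ∈ J ⊔ m ^ (n + 1) := Ideal.Quotient.eq.mp this
        exact (sup_le (le_sup_left.trans le_sup_right) le_sup_left :
          J ⊔ m ^ (n + 1) ≤ m ^ (n + 1) ⊔ (J ⊔ m ^ (n + 1 + 1))) h1
      obtain ⟨y, hy, z, hz, hyz⟩ := Submodule.mem_sup.mp hab
      refine ⟨Ideal.Quotient.mk K (a - y), Prod.ext ?_ ?_⟩
      · change Ideal.Quotient.mk _ (a - y) = g w
        rw [← ha]; exact Ideal.Quotient.eq.mpr (by simpa using hy)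
      · change Ideal.Quotient.mk _ (a - y) = red _ (u w)
        rw [← hb]; exact Ideal.Quotient.eq.mpr (by rwa [show a - y - b = z by linear_combination -hyz])
    have hinj' : Function.Injective (i1.prod i2).rangeRestrict :=
      fun x y h => hinj (congrArg Subtype.val h :)
    let e := RingEquiv.ofBijective (i1.prod i2).rangeRestrict
      ⟨hinj', (i1.prod i2).rangeRestrict_surjective⟩
    let gK : W →+* C ⧸ K :=
      e.symm.toRingHom.comp ((g.prod ((red (n + 1 + 1)).comp u)).codRestrict _ hmem)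
    have hgK : ∀ w, (i1.prod i2) (gK w) = (g w, red (n + 1 + 1) (u w)) := fun w =>
      congrArg Subtype.val (e.apply_symm_apply _)
    have hle : m ^ (n + 1 + 1) ≤ K :=
      le_inf (Ideal.pow_le_pow_right (Nat.le_add_right _ _)) le_sup_right
    have hker : IsNilpotent (RingHom.ker (Ideal.Quotient.factor hle)) := by
      refine ⟨n + 2, ?_⟩
      rw [Ideal.zero_eq_bot, eq_bot_iff, Ideal.Quotient.factor_ker, ← Ideal.map_pow,
        ← Ideal.map_quotient_self (m ^ (n + 1 + 1))]
      refine Ideal.map_mono ?_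
      have : K ≤ m := inf_le_left.trans (Ideal.pow_le_self (by omega))
      exact (Ideal.pow_right_mono this _).trans le_rfl
    obtain ⟨g', hg'⟩ := step _ _ (Ideal.Quotient.factor hle) (Ideal.Quotient.factor_surjective _) hker
      (Ideal.Quotient.mk _) (n + 1 + 1) (fun x hx => by
        rw [← map_pow, Ideal.Quotient.eq_zero_iff_mem]; exact Ideal.pow_mem_pow hx _) gK
    refine ⟨g', RingHom.ext fun w => ?_, RingHom.ext fun w => ?_⟩
    · have h1 := (Prod.mk.inj (hgK w)).2
      rw [← hg', RingHom.comp_apply] at h1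
      obtain ⟨c, hc⟩ := Ideal.Quotient.mk_surjective (g' w)
      rw [← hc] at h1
      rw [RingHom.comp_apply, ← hc]
      exact h1
    · have h1 := (Prod.mk.inj (hgK w)).1
      rw [← hg', RingHom.comp_apply] at h1
      obtain ⟨c, hc⟩ := Ideal.Quotient.mk_surjective (g' w)
      rw [← hc] at h1
      rw [RingHom.comp_apply, ← hc]
      exact h1
  -- the first approximation
  have hm1 : J ⊔ m ^ (0 + 1) ≤ m ^ (0 + 1) := by
    rw [zero_add, pow_one]; exact sup_le hJm le_rfl
  let g0 : W →+* C ⧸ m ^ (0 + 1) := (Ideal.Quotient.factor hm1).comp ((red (0 + 1)).comp u)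
  have hg0 : (pr (0 + 1)).comp g0 = (red (0 + 1)).comp u := by
    refine RingHom.ext fun w => ?_
    obtain ⟨c, hc⟩ := Ideal.Quotient.mk_surjective (u w)
    simp only [g0, RingHom.comp_apply, ← hc]
    rfl
  choose g' hg'1 hg'2 using next
  let F : ∀ n, {g : W →+* C ⧸ m ^ (n + 1) // (pr (n + 1)).comp g = (red (n + 1)).comp u} :=
    fun n => Nat.rec ⟨g0, hg0⟩ (fun k fk => ⟨g' k fk.1 fk.2, hg'1 k fk.1 fk.2⟩) n
  have ha : StrictMono fun n : ℕ => n + 1 := fun a b h => Nat.succ_lt_succ h
  let v := IsAdicComplete.StrictMono.liftRingHom m ha (fun n => (F n).1)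
    fun {n} => hg'2 n (F n).1 (F n).2
  have hv : ∀ n w, Ideal.Quotient.mk (m ^ (n + 1)) (v w) = (F n).1 w := fun n w =>
    IsAdicComplete.StrictMono.mk_liftRingHom m ha _ _ (n := n) w
  have hvu : (Ideal.Quotient.mk J).comp v = u := by
    refine RingHom.ext fun w => ?_
    obtain ⟨c, hc⟩ := Ideal.Quotient.mk_surjective (u w)
    rw [RingHom.comp_apply, ← hc, Ideal.Quotient.eq]
    have h1 : ∀ n, v w - c ∈ J ⊔ m ^ n := by
      intro n
      have := RingHom.congr_fun (F n).2 w
      rw [RingHom.comp_apply, RingHom.comp_apply, ← hv, ← hc] at this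
      exact (sup_le_sup_left (Ideal.pow_le_pow_right (Nat.le_succ n)) J) (Ideal.Quotient.eq.mp this)
    have h2 : Ideal.Quotient.mk J (v w - c) ∈ ⨅ n, (maximalIdeal (C ⧸ J)) ^ n := by
      refine Submodule.mem_iInf _ |>.mpr fun n => ?_
      obtain ⟨y, hy, z, hz, hyz⟩ := Submodule.mem_sup.mp (h1 n)
      rw [← hyz, map_add, Ideal.Quotient.eq_zero_iff_mem.mpr hy, zero_add]
      have hmap : m.map (Ideal.Quotient.mk J) ≤ maximalIdeal (C ⧸ J) := by
        refine le_maximalIdeal fun h => ?_
        have := congrArg (Ideal.comap (Ideal.Quotient.mk J)) h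
        rw [Ideal.comap_map_of_surjective' _ Ideal.Quotient.mk_surjective, Ideal.mk_ker,
          sup_eq_left.mpr hJm, Ideal.comap_top] at this
        exact (maximalIdeal.isMaximal C).ne_top this
      exact Ideal.pow_right_mono hmap n (Ideal.map_pow (Ideal.Quotient.mk J) m n ▸
        Ideal.mem_map_of_mem _ hz)
    rw [Ideal.iInf_pow_eq_bot_of_isLocalRing _ (maximalIdeal.isMaximal _).ne_top, Ideal.mem_bot,
      Ideal.Quotient.eq_zero_iff_mem] at h2
    exact h2
  refine ⟨v, ⟨fun a ha => ?_⟩, hvu⟩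
  refine IsUnit.of_map u a ?_
  rw [← hvu, RingHom.comp_apply]
  exact ha.map _

end Groth.Agent.CohenStruct
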