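import Mathlib
import Groth.Prelude.Def_Found
import Groth.Agent.S4614

/-!
# Finiteness of integral closures

* `finite_integralClosure_of_reduced`: a reduced `B ⊗ K'` forces a finite integral closure;
* `exists_badIdeal`: when `C_f` is integrally closed, the non-normal locus is closed;
* `finite_integralClosure_of_local`: finiteness of the integral closure is local if it holds
  after inverting one element.
-/

universe u

open TensorProduct

namespace Groth.Agent.CohenStruct

/-- If `B` is faithfully flat over `A`, has Japanese components and `B ⊗ K'` is reduced, the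
integral closure of `A` in `K'` is finite. -/
theorem finite_integralClosure_of_reduced {A B K' : Type u} [CommRing A]
    [IsDomain A] [CommRing B] [Algebra A B] [IsNoetherianRing B] [Module.FaithfullyFlat A B]
    (hJ : ∀ (q : Ideal B) [q.IsPrime], q ∈ minimalPrimes B → CAlg.IsN2 (B ⧸ q))
    [Field K'] [Algebra A K'] [Algebra (FractionRing A) K'] [IsScalarTower A (FractionRing A) K']
    [FiniteDimensional (FractionRing A) K'] (hred : IsReduced (B ⊗[A] K')) :
    Module.Finite A (integralClosure A K') := by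
  obtain ⟨Cα, hP, hkey, -⟩ := Groth.Agent.S4614.result (A := A) (B := B) (K' := K') hJ
  haveI := hP.1
  suffices h : integralClosure A K' ≤ Cα by
    have hle : Cα ≤ integralClosure A K' := fun y hy =>
      (Algebra.IsIntegral.isIntegral (R := A) (⟨y, hy⟩ : Cα)).map Cα.val
    rw [le_antisymm h hle]
    exact hP.1
  intro x hx
  have : Module.Finite A (Algebra.adjoin A ({x} : Set K')) :=
    Module.Finite.iff_fg.mpr hx.fg_adjoin_singleton
  let C := Cα ⊔ Algebra.adjoin A ({x} : Set K')
  have hC : Module.Finite A C := Subalgebra.finite_sup _ _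
  have hle : Cα ≤ C := le_sup_left
  let y : C := ⟨x, le_sup_right (a := Cα) (Algebra.self_mem_adjoin_singleton A x)⟩
  obtain ⟨-, h2⟩ := hkey C ⟨hC, fun w => by
    obtain ⟨a, b, hb, hab⟩ := hP.2 w
    exact ⟨⟨a, hle a.2⟩, ⟨b, hle b.2⟩, hb, hab⟩⟩ hle
  obtain ⟨z, hz⟩ := h2 (y ⊗ₜ 1)
  have : IsReduced (K' ⊗[A] B) :=
    isReduced_of_injective _ (Algebra.TensorProduct.comm A K' B).injective
  let j := Algebra.TensorProduct.map C.val (AlgHom.id A B)
  have hj : Function.Injective j :=
    Module.Flat.rTensor_preserves_injective_linearMap (M := B) C.val.toLinearMap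
      Subtype.val_injective
  have heq : Algebra.TensorProduct.map (Subalgebra.inclusion hle) (AlgHom.id A B) z =
      y ⊗ₜ 1 := by
    rw [← sub_eq_zero]
    exact hj (((hz.map j).eq_zero).trans (map_zero j).symm)
  set N : Submodule A C := LinearMap.range (Subalgebra.inclusion hle).toLinearMap with hN
  have h0 : N.mkQ y ⊗ₜ[A] (1 : B) = 0 := by
    have h1 : (N.mkQ.rTensor B) (y ⊗ₜ[A] (1 : B)) = 0 := by
      rw [← heq]
      change (N.mkQ.rTensor B) (((Subalgebra.inclusion hle).toLinearMap.rTensor B) z) = 0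
      rw [← LinearMap.rTensor_comp_apply, show N.mkQ.comp (Subalgebra.inclusion hle).toLinearMap = 0
        from LinearMap.ext fun c => (Submodule.Quotient.mk_eq_zero N).mpr ⟨c, rfl⟩,
        LinearMap.rTensor_zero, LinearMap.zero_apply]
    simpa using h1
  have h3 : N.mkQ y = 0 :=
    Module.FaithfullyFlat.tensorProduct_mk_injective (A := A) (B := B) (C ⧸ N)
      (show (1 : B) ⊗ₜ[A] N.mkQ y = (1 : B) ⊗ₜ[A] 0 by
        rw [TensorProduct.tmul_zero]
        simpa using congrArg (TensorProduct.comm A (C ⧸ N) B) h0)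
  obtain ⟨c, hc⟩ := (Submodule.Quotient.mk_eq_zero N).mp h3
  have : (c : K') = x := congrArg Subtype.val hc
  exact this ▸ c.2

section BadIdeal

variable (C L : Type*) [CommRing C] [Field L] [Algebra C L]

/-- `C` is normal at `Q` inside `L`. -/
def NormalAt (Q : Ideal C) : Prop :=
  ∀ z : L, IsIntegral C z → ∃ s, s ∉ Q ∧ s • z ∈ (1 : Submodule C L)

variable {C L}

/-- The non-normal locus is closed if `C_f` is integrally closed in `L`. -/
theorem exists_badIdeal [IsNoetherianRing C] (f : C) (hf0 : algebraMap C L f ≠ 0)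
    (hf : ∀ z : L, IsIntegral C z → ∃ k : ℕ, f ^ k • z ∈ (1 : Submodule C L)) :
    ∃ J : Ideal C, (∀ (Q : Ideal C) [Q.IsPrime], NormalAt C L Q ↔ ¬ J ≤ Q) ∧
      ∀ g ∈ J, ∀ z : L, IsIntegral C z → ∀ k : ℕ, f ^ k • z ∈ (1 : Submodule C L) →
        g ^ k • z ∈ (1 : Submodule C L) := by
  classical
  let M : Submodule C L :=
    (integralClosure C L).toSubmodule ⊓ Submodule.comap (f • LinearMap.id) (1 : Submodule C L)
  have hMle : M ≤ Submodule.span C {(algebraMap C L f)⁻¹} := by
    rintro z ⟨-, hz⟩
    obtain ⟨c, hc⟩ := Submodule.mem_one.mp hz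
    refine Submodule.mem_span_singleton.mpr ⟨c, ?_⟩
    rw [Algebra.smul_def, hc]
    change f • z * _ = z
    rw [Algebra.smul_def, mul_comm, ← mul_assoc, inv_mul_cancel₀ hf0, one_mul]
  have hMfg : M.FG := by
    have : Module.Finite C (Submodule.span C {(algebraMap C L f)⁻¹}) :=
      Module.Finite.iff_fg.mpr (Submodule.fg_span_singleton _)
    exact Module.Finite.iff_fg.mp
      (Module.Finite.of_injective (Submodule.inclusion hMle) (Submodule.inclusion_injective hMle))
  let J : Ideal C :=
    { carrier := {r | ∀ z ∈ M, r • z ∈ (1 : Submodule C L)}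
      add_mem' := fun {a b} ha hb z hz => by rw [add_smul]; exact add_mem (ha z hz) (hb z hz)
      zero_mem' := fun z _ => by rw [zero_smul]; exact zero_mem _
      smul_mem' := fun c a ha z hz => by
        rw [smul_eq_mul, mul_smul]; exact Submodule.smul_mem _ c (ha z hz) }
  have hint : ∀ (a : C) {z : L}, IsIntegral C z → IsIntegral C (a • z) := fun a z hz => hz.smul a
  refine ⟨J, fun Q hQ => ⟨fun hgood hle => ?_, fun hnle z hz => ?_⟩, ?_⟩
  · obtain ⟨G, hG⟩ := hMfg
    have hGM : ∀ y ∈ G, y ∈ M := fun y hy => hG ▸ Submodule.subset_span hy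
    choose! s hs using fun (y : L) (hy : y ∈ G) => hgood y (hGM y hy).1
    have hmem : (∏ y ∈ G, s y) ∈ J := by
      intro z hz
      rw [← hG] at hz
      induction hz using Submodule.span_induction with
      | mem y hy =>
        rw [← Finset.prod_erase_mul G s (Finset.mem_coe.mp hy), mul_smul]
        exact Submodule.smul_mem _ _ (hs y hy).2
      | zero => simp
      | add a b _ _ ha hb => rw [smul_add]; exact add_mem ha hb
      | smul c a _ ha => rw [smul_comm]; exact Submodule.smul_mem _ c ha
    obtain ⟨y, hy, hys⟩ := hQ.prod_mem_iff.mp (hle hmem)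
    exact (hs y hy).1 hys
  · obtain ⟨r, hrJ, hrQ⟩ := SetLike.not_le_iff_exists.mp hnle
    obtain ⟨k, hk⟩ := hf z hz
    induction k generalizing z with
    | zero => exact ⟨1, fun h => hQ.ne_top ((Ideal.eq_top_iff_one Q).mpr h), by simpa using hk⟩
    | succ k ih =>
      rw [pow_succ, mul_smul] at hk
      obtain ⟨t, ht, htz⟩ := ih (f • z) (hint f hz) hk
      rw [smul_comm] at htz
      refine ⟨r * t, fun h => (hQ.mem_or_mem h).elim hrQ ht, ?_⟩
      rw [mul_smul]
      exact hrJ _ ⟨hint t hz, htz⟩
  · intro g hg z hz k hk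
    induction k generalizing z with
    | zero => simpa using hk
    | succ k ih =>
      rw [pow_succ, mul_smul] at hk
      have h1 := ih (f • z) (hint f hz) hk
      rw [smul_comm] at h1
      rw [pow_succ', mul_smul]
      exact hg _ ⟨hint _ hz, h1⟩

end BadIdeal

/-- Finiteness of the integral closure is local, once it holds after inverting one element. -/
theorem finite_integralClosure_of_local {R L : Type u} [CommRing R] [IsNoetherianRing R] [Field L]
    [Algebra R L] (B : Subalgebra R L) [Module.Finite R B] (f : B) (hf0 : (f : L) ≠ 0)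
    (hf : ∀ z : L, IsIntegral R z → ∃ k : ℕ, (f : L) ^ k * z ∈ B)
    (hloc : ∀ (m : Ideal R) [m.IsMaximal], ∃ G : Finset L, (∀ y ∈ G, IsIntegral R y) ∧
      ∀ z : L, IsIntegral R z → ∃ t : R, t ∉ m ∧ t • z ∈ Submodule.span R (G : Set L)) :
    Module.Finite R (integralClosure R L) := by
  classical
  have key : ∀ (m : Ideal R) [m.IsMaximal], ∃ (D : Subalgebra R L) (g : R), g ∉ m ∧
      Module.Finite R D ∧ ∀ z : L, IsIntegral R z → ∃ k : ℕ, g ^ k • z ∈ D := by
    intro m hm
    obtain ⟨G, hG, hGz⟩ := hloc m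
    have : Module.Finite R (Algebra.adjoin R (G : Set L)) :=
      Module.Finite.iff_fg.mpr (fg_adjoin_of_finite G.finite_toSet (fun y hy => hG y hy))
    set D := B ⊔ Algebra.adjoin R (G : Set L) with hD
    have hDfin : Module.Finite R D := Subalgebra.finite_sup _ _
    have : IsNoetherianRing D := IsNoetherianRing.of_finite R D
    have : Algebra.IsIntegral R D := inferInstance
    let fD : D := ⟨(f : L), le_sup_left (b := Algebra.adjoin R (G : Set L)) f.2⟩
    have hone : ∀ w : L, w ∈ (1 : Submodule D L) ↔ w ∈ D := fun w => by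
      rw [Submodule.mem_one]
      exact ⟨fun ⟨c, hc⟩ => hc ▸ c.2, fun h => ⟨⟨w, h⟩, rfl⟩⟩
    obtain ⟨J, hJ, hJpow⟩ := exists_badIdeal fD hf0 (fun z hz => by
      obtain ⟨k, hk⟩ := hf z (isIntegral_trans z hz)
      exact ⟨k, (hone _).mpr (le_sup_left (b := Algebra.adjoin R (G : Set L)) hk)⟩)
    have hex : ∃ g, g ∈ J.comap (algebraMap R D) ∧ g ∉ m := by
      by_contra hne
      push Not at hne
      obtain ⟨Q, hJQ, hQ, hQm⟩ :=
        Ideal.exists_ideal_over_prime_of_isIntegral m J (fun r hr => hne r hr)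
      refine (hJ Q).mp (fun z hz => ?_) hJQ
      obtain ⟨t, htm, htz⟩ := hGz z (isIntegral_trans z hz)
      refine ⟨algebraMap R D t, fun h => htm (hQm ▸ h), (hone _).mpr ?_⟩
      rw [algebraMap_smul]
      exact le_sup_right (a := B) ((Subalgebra.mem_toSubmodule _).mp
        (Submodule.span_le.mpr (fun y hy => Algebra.subset_adjoin hy) htz))
    obtain ⟨g, hgJ, hgm⟩ := hex
    refine ⟨D, g, hgm, hDfin, fun z hz => ?_⟩
    obtain ⟨k, hk⟩ := hf z hz
    have h1 := hJpow _ hgJ z (hz.tower_top) k
      ((hone _).mpr (le_sup_left (b := Algebra.adjoin R (G : Set L)) hk))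
    rw [← map_pow, algebraMap_smul] at h1
    exact ⟨k, (hone _).mp h1⟩
  choose D g hgm hDfin hDz using key
  let gs : Set R := {r | ∃ (m : Ideal R) (hm : m.IsMaximal), r = @g m hm}
  have htop : Ideal.span gs = ⊤ := by
    by_contra hne
    obtain ⟨m, hm, hle⟩ := Ideal.exists_le_maximal _ hne
    exact @hgm m hm (hle (Ideal.subset_span ⟨m, hm, rfl⟩))
  obtain ⟨T, hTsub, hT1⟩ := Submodule.mem_span_finite_of_mem_span
    (show (1 : R) ∈ Ideal.span gs by rw [htop]; trivial)
  choose m hm heq using fun r : T => hTsub r.2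
  let Dtot : Subalgebra R L := Finset.univ.sup fun r : T => @D (m r) (hm r)
  have hfin : Module.Finite R Dtot := by
    apply Finset.sup_induction (p := fun E : Subalgebra R L => Module.Finite R E)
    · exact Module.Finite.of_surjective (Algebra.ofId R (⊥ : Subalgebra R L)).toLinearMap
        fun x => by obtain ⟨r, hr⟩ := Algebra.mem_bot.mp x.2; exact ⟨r, Subtype.ext hr⟩
    · intro a ha b hb; exact Subalgebra.finite_sup a b
    · intro r _; exact @hDfin (m r) (hm r)
  have hle : integralClosure R L ≤ Dtot := by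
    intro z hz
    let I : Ideal R :=
      (Subalgebra.toSubmodule Dtot).comap (LinearMap.toSpanSingleton R L z)
    have hTI : Ideal.span (T : Set R) ≤ I.radical := by
      rw [Ideal.span_le]
      intro r hr
      obtain ⟨k, hk⟩ := @hDz (m ⟨r, hr⟩) (hm ⟨r, hr⟩) z hz
      rw [← heq ⟨r, hr⟩] at hk
      exact ⟨k, Finset.le_sup (f := fun r : T => @D (m r) (hm r)) (Finset.mem_univ ⟨r, hr⟩) hk⟩
    have h1 : (1 : R) ∈ I := by
      have := hTI hT1
      rwa [← Ideal.eq_top_iff_one, Ideal.radical_eq_top, Ideal.eq_top_iff_one] at this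
    simpa [I] using h1
  exact Module.Finite.of_injective (Subalgebra.inclusion hle).toLinearMap
    (Subalgebra.inclusion_injective hle)

end Groth.Agent.CohenStruct
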