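import Groth.Prelude.Def_Found
import Mathlib
import Groth.Agent.Ref1.Algebra

/-!
# Sections outside a closed set of codimension `≥ 2`: universally catenary rings

For a domain `B` whose polynomial algebras are catenary, height-one primes of a finite birational
extension of `B` contract to height-one primes of `B`; hence, if the normalization is finite, the
elements of the fraction field regular outside a closed set of codimension `≥ 2` form a finite
`B`-module.
-/

universe u

namespace Groth.Agent.CohenStruct

open Polynomial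

/-- In a catenary ring, no series of primes between the ends of a saturated series is longer. -/
theorem length_le_of_saturated {R : Type u} [CommRing R] (h : CAlg.IsCatenary R)
    (s t : LTSeries (PrimeSpectrum R)) (hh : s.head = t.head) (hl : s.last = t.last)
    (ht : ∀ i : Fin t.length, t i.castSucc ⋖ t i.succ) : s.length ≤ t.length := by
  classical
  obtain ⟨n, hn⟩ := h.1 s.head s.last (LTSeries.head_le_last s)
  let S : Set ℕ := {m | ∃ r : LTSeries (PrimeSpectrum R), r.head = s.head ∧ r.last = s.last ∧
    r.length = m}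
  have hbdd : BddAbove S := ⟨n, fun m ⟨r, h1, h2, h3⟩ => h3 ▸ hn r h1 h2⟩
  have hne : S.Nonempty := ⟨_, s, rfl, rfl, rfl⟩
  obtain ⟨r, r1, r2, r3⟩ := Nat.sSup_mem hne hbdd
  have hsat : ∀ i : Fin r.length, r i.castSucc ⋖ r i.succ := by
    intro i
    refine ⟨r.step i, fun c hc1 hc2 => ?_⟩
    let r' := r.insertNth i c hc1 hc2
    have h0 : r'.head = r.head := by
      change Fin.insertNth (α := fun _ => PrimeSpectrum R) i.succ.castSucc c r.toFun 0 = r.toFun 0
      rw [Fin.insertNth_apply_below (by simp [Fin.lt_def])]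
      simp
    have h1 : r'.last = r.last := by
      change Fin.insertNth (α := fun _ => PrimeSpectrum R) i.succ.castSucc c r.toFun
        (Fin.last (r.length + 1)) = r.toFun (Fin.last r.length)
      rw [Fin.insertNth_apply_above (by simp [Fin.lt_def])]
      simp
      congr 1
    have : r'.length ∈ S := ⟨r', h0.trans r1, h1.trans r2, rfl⟩
    have h2 : r'.length ≤ r.length := r3 ▸ le_csSup hbdd this
    simp [r', RelSeries.insertNth] at h2
  have heq := h.2 r t (r1.trans hh) (r2.trans hl) hsat ht
  exact (le_csSup hbdd ⟨s, rfl, rfl, rfl⟩).trans (r3 ▸ heq).le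

/-- A height-one prime of a monogenic integral extension of a domain contracts to a prime of
height at most one, if the polynomial ring is catenary. -/
theorem height_comap_le_one_of_monogenic {C₀ C₁ : Type u} [CommRing C₀] [IsDomain C₀] [CommRing C₁]
    [IsDomain C₁] (hcat : CAlg.IsCatenary C₀[X]) (f : C₀ →+* C₁) (hf : Function.Injective f)
    (y : C₁) (hy : f.IsIntegralElem y) (hsurj : Function.Surjective (eval₂RingHom f y))
    (P : Ideal C₁) [P.IsPrime] (hP : P.height = 1) : (P.comap f).height ≤ 1 := by
  classical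
  set π : C₀[X] →+* C₁ := eval₂RingHom f y with hπ
  set Q : Ideal C₀[X] := RingHom.ker π with hQ
  have hQp : Q.IsPrime := RingHom.ker_isPrime _
  obtain ⟨g, hgm, hg⟩ := hy
  have hgQ : g ∈ Q := RingHom.mem_ker.mpr hg
  have hQne : Q ≠ ⊥ := fun h => hgm.ne_zero (by simpa [h] using hgQ)
  -- no nonzero prime strictly below `Q`
  have hmin : ∀ Q' : Ideal C₀[X], Q'.IsPrime → Q' ≤ Q → Q' ≠ ⊥ → Q' = Q := by
    intro Q' hQ' hle hne
    let := Polynomial.algebra C₀ (FractionRing C₀)
    have := Polynomial.isLocalization (nonZeroDivisors C₀) (FractionRing C₀)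
    set M := Submonoid.map C (nonZeroDivisors C₀)
    have hd : ∀ I : Ideal C₀[X], I ≤ Q → Disjoint (M : Set C₀[X]) (I : Set C₀[X]) := by
      intro I hI
      rw [Set.disjoint_left]
      rintro _ ⟨c, hc, rfl⟩ hcI
      have : f c = 0 := by simpa [hπ] using RingHom.mem_ker.mp (hI hcI)
      exact nonZeroDivisors.ne_zero hc (hf (by simpa using this))
    have hp' := IsLocalization.isPrime_of_isPrime_disjoint M (FractionRing C₀)[X] Q' hQ' (hd Q' hle)
    have hp := IsLocalization.isPrime_of_isPrime_disjoint M (FractionRing C₀)[X] Q hQp (hd Q le_rfl)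
    have e' := IsLocalization.under_map_of_isPrime_disjoint M (FractionRing C₀)[X] hQ' (hd Q' hle)
    have e := IsLocalization.under_map_of_isPrime_disjoint M (FractionRing C₀)[X] hQp (hd Q le_rfl)
    have hne' : Q'.map (algebraMap C₀[X] (FractionRing C₀)[X]) ≠ ⊥ := fun h => hne <| by
      rw [← e', h, Ideal.under_def, ← RingHom.ker_eq_comap_bot, ← RingHom.injective_iff_ker_eq_bot]
      exact Polynomial.map_injective _ (IsFractionRing.injective C₀ (FractionRing C₀))
    have := (hp'.isMaximal hne').eq_of_le hp.ne_top (Ideal.map_mono hle)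
    rw [← e', ← e, this]
  let P' : Ideal C₀[X] := P.comap π
  have hP'p : P'.IsPrime := Ideal.IsPrime.comap π
  have hP0 : P ≠ ⊥ := fun h => by simp [h] at hP
  have hQP : Q < P' := by
    refine lt_of_le_of_ne (Ideal.comap_mono bot_le) fun h => hP0 ?_
    rw [← Ideal.map_comap_of_surjective π hsurj P]
    change P'.map π = ⊥
    rw [← h, Ideal.map_eq_bot_iff_le_ker]
  let b : PrimeSpectrum C₀[X] := ⟨⊥, Ideal.isPrime_bot⟩
  let q : PrimeSpectrum C₀[X] := ⟨Q, hQp⟩
  let z : PrimeSpectrum C₀[X] := ⟨P', hP'p⟩
  have hbq : b ⋖ q := by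
    refine ⟨(bot_lt_iff_ne_bot.mpr hQne : (⊥ : Ideal C₀[X]) < Q), fun c hc1 hc2 => hc2.ne ?_⟩
    exact PrimeSpectrum.ext (hmin c.asIdeal c.2 hc2.le (bot_lt_iff_ne_bot.mp (hc1 : (⊥ : Ideal C₀[X]) < c.asIdeal)))
  have hqz : q ⋖ z := by
    refine ⟨hQP, fun c hc1 hc2 => ?_⟩
    have hker : RingHom.ker π ≤ c.asIdeal := hc1.le
    have hcp : (c.asIdeal.map π).IsPrime := Ideal.map_isPrime_of_surjective hsurj hker
    have hcomap : (c.asIdeal.map π).comap π = c.asIdeal := by
      rw [Ideal.comap_map_of_surjective' _ hsurj, sup_eq_left]; exact hker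
    have hlt : c.asIdeal.map π < P := by
      refine lt_of_le_of_ne (Ideal.map_le_iff_le_comap.mpr hc2.le) fun h => hc2.ne ?_
      exact PrimeSpectrum.ext (by rw [← hcomap, h])
    have h0 : c.asIdeal.map π ≠ ⊥ := fun h => hc1.ne (PrimeSpectrum.ext (by
      rw [← hcomap, h]; rfl))
    have : (c.asIdeal.map π).height = 0 := by
      have hfh : P.FiniteHeight := ⟨Or.inr (by rw [hP]; exact ENat.one_ne_top)⟩
      have : (c.asIdeal.map π).FiniteHeight :=
        ⟨Or.inr (ne_top_of_le_ne_top (by rw [hP]; exact ENat.one_ne_top) (Ideal.height_mono hlt.le))⟩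
      have := Ideal.height_strict_mono_of_isPrime hlt
      rw [hP] at this
      exact Order.lt_one_iff.mp this
    exact h0 (Ideal.height_eq_zero_iff_eq_bot.mp this)
  let t : LTSeries (PrimeSpectrum C₀[X]) :=
    { length := 2
      toFun := ![b, q, z]
      step := fun i => by fin_cases i; exacts [hbq.lt, hqz.lt] }
  have htsat : ∀ i : Fin t.length, t i.castSucc ⋖ t i.succ := by
    intro i
    fin_cases i
    · exact hbq
    · exact hqz
  -- a longer chain through the contraction
  set p : Ideal C₀ := P.comap f with hp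
  have hpp : p.IsPrime := Ideal.IsPrime.comap f
  by_contra hgt
  rw [not_le] at hgt
  have h2 : (2 : ℕ∞) ≤ p.height := Order.add_one_le_of_lt hgt
  replace h2 : (2 : ℕ∞) ≤ Order.height (⟨p, hpp⟩ : PrimeSpectrum C₀) :=
    (PrimeSpectrum.height_eq_orderHeight ⟨p, hpp⟩) ▸ h2
  obtain ⟨l, hl, hlen⟩ := Order.exists_series_of_le_height (⟨p, hpp⟩ : PrimeSpectrum C₀) (n := 2) h2
  let m : PrimeSpectrum C₀ := l ⟨1, by omega⟩
  have hm0 : m.asIdeal ≠ ⊥ := by
    have h01 : l ⟨0, by omega⟩ < m := l.strictMono (Fin.mk_lt_mk.mpr Nat.zero_lt_one)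
    exact fun h => absurd (h ▸ (show (l ⟨0, by omega⟩).asIdeal < m.asIdeal from h01)) not_lt_bot
  have hmp : m.asIdeal < p := by
    have : m < (⟨p, hpp⟩ : PrimeSpectrum C₀) := by
      rw [← hl]; exact l.strictMono (by simp [Fin.last, Fin.lt_def, hlen])
    exact this
  have hCmono : ∀ {I J : Ideal C₀}, I < J → I.map (C : C₀ →+* C₀[X]) < J.map C := by
    intro I J h
    refine lt_of_le_not_ge (Ideal.map_mono h.le) fun h' => h.not_ge fun x hx => ?_
    have := Ideal.mem_map_C_iff.mp (h' (Ideal.mem_map_of_mem C hx)) 0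
    simpa using this
  let m' : PrimeSpectrum C₀[X] := ⟨m.asIdeal.map C, inferInstance⟩
  let p' : PrimeSpectrum C₀[X] := ⟨p.map C, inferInstance⟩
  have hbm : b < m' := (bot_lt_iff_ne_bot.mpr fun h => hm0 <| by
    rwa [Ideal.map_eq_bot_iff_of_injective C_injective] at h : (⊥ : Ideal C₀[X]) < m.asIdeal.map C)
  have hmp' : m' < p' := hCmono hmp
  have hpz : p' < z := by
    refine lt_of_le_not_ge (?_ : p.map C ≤ P') fun h => ?_
    · rw [Ideal.map_le_iff_le_comap]
      intro x hx
      simp only [P', Ideal.mem_comap, hπ, coe_eval₂RingHom, eval₂_C]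
      exact hx
    · have hgp := Ideal.mem_map_C_iff.mp (h (show g ∈ P' from hQP.le hgQ)) g.natDegree
      rw [hgm.coeff_natDegree] at hgp
      exact hpp.ne_top ((Ideal.eq_top_iff_one _).mpr hgp)
  let s : LTSeries (PrimeSpectrum C₀[X]) :=
    { length := 3
      toFun := ![b, m', p', z]
      step := fun i => by fin_cases i; exacts [hbm, hmp', hpz] }
  have := length_le_of_saturated hcat s t rfl rfl htsat
  simp [s, t] at this

/-- Height-one primes of a finite extension inside the fraction field contract to height-one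
primes. -/
theorem height_comap_eq_one {B K : Type u} [CommRing B] [IsDomain B] [Field K] [Algebra B K]
    [IsFractionRing B K]
    (hcat : ∀ (S : Type u) [CommRing S] [Algebra B S], Algebra.FiniteType B S → CAlg.IsCatenary S)
    (T : Finset K) (hT : ∀ x ∈ T, IsIntegral B x) (P : Ideal (Algebra.adjoin B (T : Set K)))
    [P.IsPrime] (hP : P.height = 1) :
    (P.comap (algebraMap B (Algebra.adjoin B (T : Set K)))).height = 1 := by
  classical
  suffices key : ∀ T : Finset K, (∀ x ∈ T, IsIntegral B x) →
      ∀ (P : Ideal (Algebra.adjoin B (T : Set K))) [P.IsPrime], P.height = 1 →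
        (P.comap (algebraMap B (Algebra.adjoin B (T : Set K)))).height ≤ 1 by
    refine le_antisymm (key T hT P hP) ?_
    rw [ENat.one_le_iff_ne_zero]
    intro h0
    have hpp : (P.comap (algebraMap B (Algebra.adjoin B (T : Set K)))).IsPrime :=
      Ideal.IsPrime.comap _
    have : Algebra.IsIntegral B (Algebra.adjoin B (T : Set K)) :=
      Algebra.IsIntegral.adjoin fun x hx => hT x hx
    have hbot := Ideal.height_eq_zero_iff_eq_bot.mp h0
    have := Ideal.eq_bot_of_comap_eq_bot (R := B) hbot
    simp [this] at hP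
  intro T
  induction T using Finset.induction with
  | empty =>
    intro _ P _ hP
    have hb : Function.Bijective (algebraMap B (Algebra.adjoin B ((∅ : Finset K) : Set K))) := by
      refine ⟨fun x y h => IsFractionRing.injective B K (congrArg Subtype.val h :), ?_⟩
      rintro ⟨x, hx⟩
      rw [Finset.coe_empty, Algebra.adjoin_empty, Algebra.mem_bot] at hx
      obtain ⟨b, rfl⟩ := hx
      exact ⟨b, rfl⟩
    have e := RingEquiv.ofBijective _ hb
    rw [show P.comap (algebraMap B _) = P.comap (RingEquiv.ofBijective _ hb) from rfl,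
      RingEquiv.height_comap, hP]
  | insert y T hy ih =>
    intro hT
    have hT' : ∀ x ∈ T, IsIntegral B x := fun x hx => hT x (Finset.mem_insert_of_mem hx)
    set C₀ := Algebra.adjoin B (T : Set K)
    set C₁ := Algebra.adjoin B ((insert y T : Finset K) : Set K)
    intro P hPp hP
    have hle : C₀ ≤ C₁ := Algebra.adjoin_mono (by simp)
    let f : C₀ →ₐ[B] C₁ := Subalgebra.inclusion hle
    let y' : C₁ := ⟨y, Algebra.subset_adjoin (by simp)⟩
    have hcomp : P.comap (algebraMap B C₁) =
        (P.comap f.toRingHom).comap (algebraMap B C₀) := by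
      rw [Ideal.comap_comap, f.toRingHom_eq_coe, AlgHom.comp_algebraMap]
    have hcat' : CAlg.IsCatenary C₀[X] := by
      have : Algebra.FiniteType B C₀ :=
        (Subalgebra.fg_iff_finiteType _).mp (Subalgebra.fg_adjoin_finset T)
      exact hcat _ (Algebra.FiniteType.trans this inferInstance)
    have hyint : f.toRingHom.IsIntegralElem y' := by
      obtain ⟨g, hgm, hg⟩ := hT y (Finset.mem_insert_self y T)
      refine ⟨g.map (algebraMap B C₀), hgm.map _, Subtype.ext ?_⟩
      rw [eval₂_map, f.toRingHom_eq_coe, AlgHom.comp_algebraMap]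
      exact (hom_eval₂ g (algebraMap B C₁) C₁.val.toRingHom y').trans hg
    have hsurj : Function.Surjective (eval₂RingHom f.toRingHom y') := by
      rintro ⟨x, hx⟩
      induction hx using Algebra.adjoin_induction with
      | mem z hz =>
        rcases Finset.mem_insert.mp hz with rfl | hz
        · exact ⟨X, by simp [y']⟩
        · exact ⟨Polynomial.C ⟨z, Algebra.subset_adjoin hz⟩, by simp [f]⟩
      | algebraMap b => exact ⟨Polynomial.C (algebraMap B C₀ b), by simp [f]; rfl⟩
      | add a b _ _ ha hb =>
        obtain ⟨u, hu⟩ := ha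
        obtain ⟨v, hv⟩ := hb
        exact ⟨u + v, by rw [map_add, hu, hv]; rfl⟩
      | mul a b _ _ ha hb =>
        obtain ⟨u, hu⟩ := ha
        obtain ⟨v, hv⟩ := hb
        exact ⟨u * v, by rw [map_mul, hu, hv]; rfl⟩
    have h1 := height_comap_le_one_of_monogenic hcat' f.toRingHom
      (Subalgebra.inclusion_injective hle) y' hyint hsurj P hP
    rw [hcomp]
    rcases h1.lt_or_eq with h0 | h1
    · have hinj : Function.Injective (algebraMap B C₀) := fun a b h =>
        IsFractionRing.injective B K (congrArg Subtype.val h :)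
      rw [Ideal.height_eq_zero_iff_eq_bot.mp (Order.lt_one_iff.mp h0),
        ← RingHom.ker_eq_comap_bot, (RingHom.injective_iff_ker_eq_bot _).mp hinj]
      simp
    · exact ih hT' _ h1

/-- **Finiteness of the hull** for a universally catenary domain with finite normalization. -/
theorem finite_of_catenary {B K : Type u} [CommRing B] [IsDomain B] [IsNoetherianRing B] [Field K]
    [Algebra B K] [IsFractionRing B K]
    (hcat : ∀ (S : Type u) [CommRing S] [Algebra B S], Algebra.FiniteType B S → CAlg.IsCatenary S)
    [Module.Finite B (integralClosure B K)] (J : Ideal B) (hJ2 : (2 : ℕ∞) ≤ J.height)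
    (B' : Submodule B K)
    (hB' : ∀ x ∈ B', ∀ (p : Ideal B) [p.IsPrime], ¬ J ≤ p →
      ∃ s, s ∉ p ∧ ∃ a, algebraMap B K a = algebraMap B K s * x) :
    Module.Finite B B' := by
  classical
  obtain ⟨T, hT⟩ : (integralClosure B K).toSubmodule.FG :=
    Module.Finite.iff_fg.mp (inferInstanceAs (Module.Finite B (integralClosure B K)))
  have hTint : ∀ x ∈ T, IsIntegral B x := fun x hx =>
    (Subalgebra.mem_toSubmodule _).mp (hT ▸ Submodule.subset_span hx)
  have hadj : Algebra.adjoin B (T : Set K) = integralClosure B K :=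
    le_antisymm (Algebra.adjoin_le fun x hx => hTint x hx) fun x hx =>
      Algebra.span_le_adjoin B _ (hT.symm ▸ ((Subalgebra.mem_toSubmodule _).mpr hx) :)
  have hone : ∀ (P : Ideal (integralClosure B K)) [P.IsPrime], P.height = 1 →
      (P.comap (algebraMap B (integralClosure B K))).height = 1 := by
    rw [← hadj]
    exact fun P _ hP => height_comap_eq_one hcat T hTint P hP
  have := integralClosure.isIntegrallyClosedOfFiniteExtension (R := B) K (L := K)
  have := integralClosure.isFractionRing_of_finite_extension (A := B) K K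
  have : IsNoetherianRing (integralClosure B K) := IsNoetherianRing.of_finite B _
  have hle : B' ≤ (integralClosure B K).toSubmodule := by
    intro x hx
    obtain ⟨c, rfl⟩ := Ref1.mem_range_of_forall_height_one (A := integralClosure B K) x
      fun P hPp hP => by
        have hp : (P.comap (algebraMap B (integralClosure B K))).IsPrime := Ideal.IsPrime.comap _
        have hnJ : ¬ J ≤ P.comap (algebraMap B (integralClosure B K)) := fun h => by
          have := hJ2.trans (Ideal.height_mono h)
          rw [hone P hP] at this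
          norm_num at this
        obtain ⟨s, hs, a, ha⟩ := hB' x hx _ hnJ
        exact ⟨algebraMap B _ s, algebraMap B _ a, hs, ha.symm⟩
    exact c.2
  exact Module.Finite.of_injective (Submodule.inclusion hle) (Submodule.inclusion_injective hle)

end Groth.Agent.CohenStruct
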