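import Mathlib
import Groth.Agent.DepthLib.CMPoly

/-!
# Sections outside a closed set of codimension `≥ 2`: quotients of regular rings

If `B` is a domain quotient of a regular ring, the elements of the fraction field which are
regular at all height-one primes form a finite `B`-module.
-/

universe u

namespace Groth.Agent.CohenStruct

open Groth.Agent

/-- Primes minimal over a colon ideal of a complete intersection have height at most `n`. -/
theorem height_le_of_mem_minimalPrimes_colon {S : Type u} [CommRing S] [IsRegularRing S] {n : ℕ}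
    (f : Fin n → S) (hJ : (n : ℕ∞) ≤ (Ideal.span (Set.range f)).height) {g : S} {m : Ideal S}
    (hm : m ∈ (Submodule.colon (Ideal.span (Set.range f)) {g}).minimalPrimes) : m.height ≤ n := by
  classical
  set J := Ideal.span (Set.range f)
  set C : Ideal S := Submodule.colon J {g}
  have hmP : m.IsPrime := hm.1.1
  by_contra hlt
  rw [not_le] at hlt
  have hfm : ∀ i, f i ∈ m := fun i => hm.1.2 (Submodule.mem_colon_singleton.mpr
    (Ideal.mul_mem_right g J (Ideal.subset_span ⟨i, rfl⟩)))
  have hfin := Ideal.finite_minimalPrimes_of_isNoetherianRing S C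
  let others : Finset (Ideal S) := hfin.toFinset.erase m
  have hex : ∃ t, (∀ M ∈ others, t ∈ M) ∧ t ∉ m := by
    by_contra hne
    push Not at hne
    have hle : others.inf id ≤ m := fun t ht => hne t fun M hM => (Finset.inf_le hM : _ ≤ id M) ht
    obtain ⟨M, hM, hMm⟩ := hmP.inf_le'.mp hle
    rw [Finset.mem_erase, Set.Finite.mem_toFinset] at hM
    exact hM.1 (le_antisymm hMm (hm.2 hM.2.1 hMm))
  obtain ⟨t, htM, htm⟩ := hex
  obtain ⟨N, hN⟩ := Ideal.exists_radical_pow_le_of_fg C (IsNoetherian.noetherian _)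
  have hyt : ∀ y ∈ m, y * t ∈ C.radical := by
    intro y hy
    rw [← Ideal.sInf_minimalPrimes, Ideal.mem_sInf]
    intro M hM
    by_cases hMe : M = m
    · exact hMe ▸ Ideal.mul_mem_right t m hy
    · exact Ideal.mul_mem_left M y (htM M (Finset.mem_erase.mpr ⟨hMe, hfin.mem_toFinset.mpr hM⟩))
  have hle : m ≤ (Submodule.colon J {t ^ N * g}).radical := by
    intro y hy
    refine ⟨N, Submodule.mem_colon_singleton.mpr ?_⟩
    have := Submodule.mem_colon_singleton.mp (hN (Ideal.pow_mem_pow (hyt y hy) N))
    rw [smul_eq_mul] at this ⊢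
    rw [mul_pow, mul_assoc] at this
    exact this
  obtain ⟨s, hs, hsg⟩ := DepthLib.CMPoly.exists_notMem_mul_mem m f hfm hJ hlt hle
  have hmem : s * t ^ N ∈ C := Submodule.mem_colon_singleton.mpr (by
    rw [smul_eq_mul, mul_assoc]; exact hsg)
  exact (hmP.mem_or_mem (hm.1.2 hmem)).elim hs fun h => htm (hmP.mem_of_pow_mem N h)

/-- **Finiteness of the hull** for a quotient domain of a regular ring. -/
theorem finite_of_regular_quotient {R B K : Type u} [CommRing R] [IsRegularRing R] [CommRing B]
    [IsDomain B] [Algebra R B] [Field K] [Algebra B K] [IsFractionRing B K]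
    (hsurj : Function.Surjective (algebraMap R B)) (J : Ideal B) (hJ2 : (2 : ℕ∞) ≤ J.height)
    (B' : Submodule B K)
    (hB' : ∀ x ∈ B', ∀ (p : Ideal B) [p.IsPrime], ¬ J ≤ p →
      ∃ s, s ∉ p ∧ ∃ a, algebraMap B K a = algebraMap B K s * x) :
    Module.Finite B B' := by
  classical
  let : Algebra R K := ((algebraMap B K).comp (algebraMap R B)).toAlgebra
  have : IsScalarTower R B K := .of_algebraMap_eq fun _ => rfl
  set Q : Ideal R := RingHom.ker (algebraMap R B) with hQ
  have hQp : Q.IsPrime := RingHom.ker_isPrime _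
  obtain ⟨I, hIQ, hrank, hIh⟩ := Ideal.exists_spanRank_eq_and_height_eq Q hQp.ne_top
  obtain ⟨c, hc⟩ := ENat.ne_top_iff_exists.mp (Ideal.height_ne_top hQp.ne_top)
  have hQmin : Q ∈ I.minimalPrimes := Ideal.mem_minimalPrimes_of_height_le hIQ hIh.ge
  obtain ⟨f, hf⟩ : ∃ f : Fin c → R, Ideal.span (Set.range f) = I := by
    have hfg : I.FG := IsNoetherian.noetherian I
    have hcard : I.generators.ncard = c := by
      rw [Submodule.FG.generators_ncard hfg]
      have h1 : I.spanRank = (c : Cardinal) := by
        rw [hrank, ← hc]; rfl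
      rw [Submodule.fg_iff_spanRank_eq_spanFinrank.mpr hfg] at h1
      exact_mod_cast h1
    have := (Submodule.FG.finite_generators hfg).to_subtype
    have e : I.generators ≃ Fin c :=
      Finite.equivFinOfCardEq (by rw [Nat.card_coe_set_eq, hcard])
    refine ⟨fun i => (e.symm i : R), ?_⟩
    conv_rhs => rw [← Submodule.span_generators I]
    congr 1
    ext x
    simp only [Set.mem_range]
    exact ⟨fun ⟨i, hi⟩ => hi ▸ Subtype.coe_prop _,
      fun hx => ⟨e ⟨x, hx⟩, by simp⟩⟩
  -- a section of `R ⧸ I` with annihilator `Q`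
  obtain ⟨w, hw⟩ : ∃ w : R ⧸ I, Q = Submodule.colon ⊥ {w} := by
    have hQass : IsAssociatedPrime Q (R ⧸ I) :=
      Module.associatedPrimes.minimalPrimes_annihilator_subset_associatedPrimes R (R ⧸ I)
        (by rwa [Ideal.annihilator_quotient])
    exact (isAssociatedPrime_iff.mp hQass).2
  have hwQ : ∀ r, r ∈ Q ↔ r • w = 0 := fun r => by
    rw [hw, Submodule.mem_colon_singleton, Submodule.mem_bot]
  obtain ⟨w₀, hw₀⟩ := Ideal.Quotient.mk_surjective w
  -- `K` is a localisation of `B`, hence of `R`
  let M : Submonoid R := Q.primeCompl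
  let γ : R →ₗ[R] K := Algebra.linearMap R K
  let mkL : (R ⧸ I) →ₗ[R] LocalizedModule M (R ⧸ I) := LocalizedModule.mkLinearMap M (R ⧸ I)
  have hKunit : ∀ m : M, algebraMap R K m ≠ 0 := fun m h => m.2 (by
    rw [IsScalarTower.algebraMap_apply R B K, map_eq_zero_iff _ (IsFractionRing.injective B K)] at h
    exact RingHom.mem_ker.mpr h)
  -- `x = a / b ↦ a • w / b`
  have hrep : ∀ x : K, ∃ (a : R) (b : M), algebraMap R K b * x = algebraMap R K a := by
    intro x
    obtain ⟨a, b, hb, rfl⟩ := IsFractionRing.div_surjective (A := B) x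
    obtain ⟨a, rfl⟩ := hsurj a
    obtain ⟨b, rfl⟩ := hsurj b
    have hbQ : b ∈ M := fun h => nonZeroDivisors.ne_zero hb (RingHom.mem_ker.mp h)
    refine ⟨a, ⟨b, hbQ⟩, ?_⟩
    have hb0 := hKunit ⟨b, hbQ⟩
    rw [IsScalarTower.algebraMap_apply R B K] at hb0
    rw [IsScalarTower.algebraMap_apply R B K, IsScalarTower.algebraMap_apply R B K]
    field_simp
  choose na db hab using hrep
  have hwd : ∀ (x : K) (a : R) (b : M), algebraMap R K b * x = algebraMap R K a →
      LocalizedModule.mk (na x • w) (db x) = LocalizedModule.mk (a • w) b := by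
    intro x a b h
    rw [LocalizedModule.mk_eq]
    refine ⟨1, ?_⟩
    simp only [one_smul, Submonoid.smul_def, smul_smul]
    rw [← sub_eq_zero, ← sub_smul, ← hwQ, RingHom.mem_ker,
      ← map_eq_zero_iff _ (IsFractionRing.injective B K), ← IsScalarTower.algebraMap_apply,
      map_sub, map_mul, map_mul, ← hab x, ← h]
    ring
  let ψ : K →ₗ[R] LocalizedModule M (R ⧸ I) :=
    { toFun := fun x => LocalizedModule.mk (na x • w) (db x)
      map_add' := fun x y => by
        rw [hwd (x + y) ((db y : R) * na x + (db x : R) * na y) (db x * db y) (by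
          rw [Submonoid.coe_mul, map_mul, map_add, map_mul, map_mul, ← hab x, ← hab y]; ring),
          LocalizedModule.mk_add_mk, Submonoid.smul_def, Submonoid.smul_def, smul_smul, smul_smul,
          ← add_smul]
      map_smul' := fun r x => by
        rw [hwd (r • x) (r * na x) (db x) (by
          rw [Algebra.smul_def, map_mul, ← hab x]; ring), RingHom.id_apply,
          LocalizedModule.smul'_mk, smul_smul] }
  have hψinj : ∀ x, ψ x = 0 → x = 0 := by
    intro x hx
    have hx' : LocalizedModule.mk (na x • w) (db x) = 0 := hx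
    rw [← LocalizedModule.zero_mk (db x), LocalizedModule.mk_eq] at hx'
    obtain ⟨u, hu⟩ := hx'
    simp only [Submonoid.smul_def, smul_zero, smul_smul] at hu
    rw [← hwQ] at hu
    have hna : na x ∈ Q :=
      (hQp.mem_or_mem ((hQp.mem_or_mem hu).resolve_left u.2)).resolve_left (db x).2
    have h0 : algebraMap R K (db x) * x = 0 := by
      rw [hab x, IsScalarTower.algebraMap_apply R B K, RingHom.mem_ker.mp hna, map_zero]
    exact (mul_eq_zero.mp h0).resolve_left (hKunit _)
  -- the image lands in `R ⧸ I`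
  have hland : ∀ x ∈ B', ψ x ∈ LinearMap.range mkL := by
    intro x hx
    -- denominators of `x`
    let D : Ideal R := (1 : Submodule B K).restrictScalars R |>.comap (LinearMap.toSpanSingleton R K x)
    have hQD : Q ≤ D := fun r hr => by
      have : algebraMap R K r = 0 := by
        rw [IsScalarTower.algebraMap_apply R B K, RingHom.mem_ker.mp hr, map_zero]
      simp [D, Algebra.smul_def, this]
    have hImin := Ideal.finite_minimalPrimes_of_isNoetherianRing R I
    have havoid : ∃ b ∈ D, ∀ P ∈ I.minimalPrimes, b ∉ P := by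
      by_contra hne
      push Not at hne
      have hsub : (D : Set R) ⊆ ⋃ P ∈ hImin.toFinset, (P : Set R) := fun b hb => by
        obtain ⟨P, hP, hbP⟩ := hne b hb
        exact Set.mem_iUnion₂.mpr ⟨P, hImin.mem_toFinset.mpr hP, hbP⟩
      obtain ⟨P, hP, hDP⟩ := (Ideal.subset_union_prime (f := fun P : Ideal R => P) ⊤ ⊤
        (fun P hP _ _ => (hImin.mem_toFinset.mp hP).1.1)).mp hsub
      rw [Set.Finite.mem_toFinset] at hP
      have hPQ : P = Q := le_antisymm (hP.2 hQmin.1 (hQD.trans hDP)) (hQD.trans hDP)
      have hb : (db x : R) ∈ D := by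
        simp only [D, Submodule.mem_comap, Submodule.restrictScalars_mem,
          LinearMap.toSpanSingleton_apply, Submodule.mem_one]
        exact ⟨algebraMap R B (na x), by
          rw [← IsScalarTower.algebraMap_apply, ← hab x, Algebra.smul_def]⟩
      exact (db x).2 (hPQ ▸ hDP hb)
    obtain ⟨b, hbD, hbmin⟩ := havoid
    obtain ⟨aB, haB⟩ := Submodule.mem_one.mp (show b • x ∈ (1 : Submodule B K) from hbD)
    obtain ⟨a, rfl⟩ := hsurj aB
    rw [← IsScalarTower.algebraMap_apply, Algebra.smul_def] at haB
    let f' : Fin (c + 1) → R := Fin.cons b f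
    have hspan : Ideal.span (Set.range f') = Ideal.span {b} ⊔ I := by
      rw [Fin.range_cons, Ideal.span_insert, hf]
    have hht : ((c + 1 : ℕ) : ℕ∞) ≤ (Ideal.span (Set.range f')).height := by
      rw [Ideal.height_eq_inf_minimalPrimes]
      refine le_iInf₂ fun P hP => ?_
      have hPp : P.IsPrime := hP.1.1
      have hIP : I ≤ P := (le_sup_right.trans hspan.ge).trans hP.1.2
      obtain ⟨Pi, hPi, hPiP⟩ := Ideal.exists_minimalPrimes_le hIP
      have := hPi.1.1
      have hlt : Pi < P := lt_of_le_of_ne hPiP fun e => hbmin Pi hPi (e ▸ hP.1.2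
        (hspan ▸ Submodule.mem_sup_left (Ideal.subset_span rfl)))
      have h1 : (c : ℕ∞) ≤ Pi.height := (hc.trans hIh.symm).le.trans (Ideal.height_mono hPi.1.2)
      have h2 := Ideal.height_strict_mono_of_isPrime hlt
      calc ((c + 1 : ℕ) : ℕ∞) = (c : ℕ∞) + 1 := by push_cast; rfl
        _ ≤ Pi.height + 1 := by gcongr
        _ ≤ P.height := Order.add_one_le_of_lt h2
    set C : Ideal R := Submodule.colon (Ideal.span (Set.range f')) {a * w₀}
    have hQw : ∀ r ∈ Q, r * w₀ ∈ I := fun r hr => by
      rw [← Ideal.Quotient.eq_zero_iff_mem, map_mul, hw₀]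
      exact (hwQ r).mp hr
    have htop : C = ⊤ := by
      by_contra hCne
      obtain ⟨m, hm⟩ := Ideal.nonempty_minimalPrimes hCne
      have hmp : m.IsPrime := hm.1.1
      have hmh := height_le_of_mem_minimalPrimes_colon f' hht hm
      have hQm : Q ≤ m := fun r hr => hm.1.2 (Submodule.mem_colon_singleton.mpr (by
        rw [smul_eq_mul, mul_left_comm]
        exact Ideal.mul_mem_left _ a (hspan ▸ Submodule.mem_sup_right (hQw r hr))))
      let mB : Ideal B := m.map (algebraMap R B)
      have hmB : mB.IsPrime := Ideal.map_isPrime_of_surjective hsurj hQm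
      have hcom : mB.comap (algebraMap R B) = m := by
        rw [Ideal.comap_map_of_surjective' _ hsurj, sup_eq_left]; exact hQm
      have hnJ : ¬ J ≤ mB := by
        intro hle
        have h2 : (2 : ℕ∞) ≤ mB.height := hJ2.trans (Ideal.height_mono hle)
        replace h2 : (2 : ℕ∞) ≤ Order.height (⟨mB, hmB⟩ : PrimeSpectrum B) :=
          (PrimeSpectrum.height_eq_orderHeight ⟨mB, hmB⟩) ▸ h2
        obtain ⟨l, hl, hlen⟩ := Order.exists_series_of_le_height (⟨mB, hmB⟩ : PrimeSpectrum B)
          (n := 2) h2
        have h01 : l ⟨0, by omega⟩ < l ⟨1, by omega⟩ :=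
          l.strictMono (Fin.mk_lt_mk.mpr Nat.zero_lt_one)
        have h12 : l ⟨1, by omega⟩ < (⟨mB, hmB⟩ : PrimeSpectrum B) := by
          rw [← hl]; exact l.strictMono (by simp [Fin.last, Fin.lt_def, hlen])
        have hlt : ∀ {P P' : Ideal B}, P < P' →
            P.comap (algebraMap R B) < P'.comap (algebraMap R B) := fun {P P'} h =>
          lt_of_le_not_ge (Ideal.comap_mono h.le) fun h' =>
            h.not_ge ((Ideal.comap_le_comap_iff_of_surjective _ hsurj _ _).mp h')
        have e1 : (l ⟨0, by omega⟩).asIdeal.comap (algebraMap R B) <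
            (l ⟨1, by omega⟩).asIdeal.comap (algebraMap R B) := hlt h01
        have e2 : (l ⟨1, by omega⟩).asIdeal.comap (algebraMap R B) < m := hcom ▸ hlt h12
        have e0 : Q ≤ (l ⟨0, by omega⟩).asIdeal.comap (algebraMap R B) :=
          fun r hr => by rw [Ideal.mem_comap, RingHom.mem_ker.mp hr]; exact zero_mem _
        have k1 := Order.add_one_le_of_lt (Ideal.height_strict_mono_of_isPrime e1)
        have k2 := Order.add_one_le_of_lt (Ideal.height_strict_mono_of_isPrime e2)
        have k0 : (c : ℕ∞) ≤ _ := hc.le.trans (Ideal.height_mono e0)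
        have : (c : ℕ∞) + 1 + 1 ≤ ((c + 1 : ℕ) : ℕ∞) := by
          exact ((add_le_add (add_le_add k0 le_rfl) le_rfl).trans
            ((add_le_add k1 le_rfl).trans k2)).trans hmh
        norm_cast at this
        omega
      obtain ⟨sB, hs, aB', ha'⟩ := hB' x hx mB hnJ
      obtain ⟨s, rfl⟩ := hsurj sB
      obtain ⟨a', rfl⟩ := hsurj aB'
      rw [← IsScalarTower.algebraMap_apply, ← IsScalarTower.algebraMap_apply] at ha'
      have hQ' : s * a - b * a' ∈ Q := by
        rw [RingHom.mem_ker, ← map_eq_zero_iff _ (IsFractionRing.injective B K),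
          ← IsScalarTower.algebraMap_apply, map_sub, map_mul, map_mul, haB, ha']
        ring
      refine hs (Ideal.mem_map_of_mem _ (hm.1.2 (Submodule.mem_colon_singleton.mpr ?_)))
      rw [smul_eq_mul, hspan, show s * (a * w₀) = (s * a - b * a') * w₀ + b * (a' * w₀) by ring]
      exact add_mem (Submodule.mem_sup_right (hQw _ hQ'))
        (Submodule.mem_sup_left (Ideal.mul_mem_right _ _ (Ideal.subset_span rfl)))
    have h1 : a * w₀ ∈ Ideal.span {b} ⊔ I := by
      have := Submodule.mem_colon_singleton.mp (show (1 : R) ∈ C by rw [htop]; trivial)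
      rwa [one_smul, hspan] at this
    obtain ⟨u, hu, v, hv, huv⟩ := Submodule.mem_sup.mp h1
    obtain ⟨y, rfl⟩ := Ideal.mem_span_singleton'.mp hu
    have hbM : b ∈ M := hbmin Q hQmin
    refine ⟨Ideal.Quotient.mk I y, ?_⟩
    change LocalizedModule.mk (Ideal.Quotient.mk I y) 1 = LocalizedModule.mk (na x • w) (db x)
    rw [hwd x a ⟨b, hbM⟩ haB.symm, LocalizedModule.mk_eq]
    refine ⟨1, ?_⟩
    simp only [one_smul, Submonoid.smul_def, ← hw₀]
    change Ideal.Quotient.mk I (b * y) = Ideal.Quotient.mk I (a * w₀)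
    rw [Ideal.Quotient.mk_eq_mk_iff_sub_mem, ← huv, show b * y - (y * b + v) = -v by ring]
    exact neg_mem hv
  let N : Submodule R K := B'.restrictScalars R
  let φ : N →ₗ[R] LinearMap.range mkL :=
    (ψ.comp N.subtype).codRestrict _ fun x => hland x x.2
  have hφ : Function.Injective φ := by
    rw [injective_iff_map_eq_zero]
    intro x hx
    exact Subtype.ext (hψinj x (congrArg Subtype.val hx :))
  have : Module.Finite R (LinearMap.range mkL) := Module.Finite.range mkL
  have hN : Module.Finite R N := Module.Finite.of_injective φ hφ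
  let eN : N ≃ₗ[R] B' :=
    { toFun := fun x => ⟨x.1, x.2⟩
      invFun := fun x => ⟨x.1, x.2⟩
      map_add' := fun _ _ => rfl
      map_smul' := fun _ _ => rfl
      left_inv := fun _ => rfl
      right_inv := fun _ => rfl }
  have : Module.Finite R B' := Module.Finite.equiv eN
  exact Module.Finite.of_restrictScalars_finite R B B'

end Groth.Agent.CohenStruct
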