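import Mathlib
import Groth.Prelude.Def_Found
import Groth.Agent.CohenStruct.Criterion
import Groth.Agent.CohenStruct.N2

/-!
# Normality at primes; finite integral closure for analytically unramified rings
-/

universe u

open TensorProduct IsLocalRing

namespace Groth.Agent.CohenStruct

/-- Integral closedness of a localisation, read in the fraction field. -/
theorem isIntegrallyClosed_localization_iff {R : Type*} [CommRing R] [IsDomain R] (M : Submonoid R)
    (hM : M ≤ nonZeroDivisors R) (S : Type*) [CommRing S] [IsDomain S] [Algebra R S]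
    [IsLocalization M S] (K : Type*) [Field K] [Algebra R K] [IsFractionRing R K] :
    IsIntegrallyClosed S ↔
      ∀ z : K, IsIntegral R z → ∃ s ∈ M, s • z ∈ (1 : Submodule R K) := by
  have hu : ∀ y : M, IsUnit (algebraMap R K y) := fun y =>
    IsLocalization.map_units K (⟨y, hM y.2⟩ : nonZeroDivisors R)
  let : Algebra S K := (IsLocalization.lift hu).toAlgebra
  have : IsScalarTower R S K := .of_algebraMap_eq fun r => (IsLocalization.lift_eq hu r).symm
  have : IsFractionRing S K := IsFractionRing.isFractionRing_of_isDomain_of_isLocalization M S K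
  rw [isIntegrallyClosed_iff K]
  constructor
  · intro h z hz
    obtain ⟨a, ha⟩ := h hz.tower_top
    obtain ⟨⟨b, s⟩, hb⟩ := IsLocalization.surj M a
    refine ⟨s, s.2, Submodule.mem_one.mpr ⟨b, ?_⟩⟩
    rw [IsScalarTower.algebraMap_apply R S K, ← hb, map_mul, ha, Algebra.smul_def, mul_comm,
      ← IsScalarTower.algebraMap_apply]
  · intro h z hz
    obtain ⟨⟨t, ht⟩, htz⟩ := IsIntegral.exists_multiple_integral_of_isLocalization M z hz
    obtain ⟨s, hs, hsz⟩ := h _ htz
    obtain ⟨b, hb⟩ := Submodule.mem_one.mp hsz
    refine ⟨IsLocalization.mk' S b ⟨s * t, mul_mem hs ht⟩, ?_⟩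
    have h1 := congrArg (algebraMap S K) (IsLocalization.mk'_spec S b ⟨s * t, mul_mem hs ht⟩)
    rw [map_mul, ← IsScalarTower.algebraMap_apply, ← IsScalarTower.algebraMap_apply] at h1
    have hne : algebraMap R K (s * t) ≠ 0 := (hu ⟨s * t, mul_mem hs ht⟩).ne_zero
    apply mul_right_cancel₀ hne
    rw [h1, hb, Submonoid.smul_def, smul_smul, Algebra.smul_def, mul_comm]

/-- Generators of the integral closure over a localisation, cleared of denominators. -/
theorem exists_generators_localization {R L : Type*} [CommRing R] [Field L] [Algebra R L]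
    (M : Submonoid R) (S : Type*) [CommRing S] [Algebra R S] [IsLocalization M S] [Algebra S L]
    [IsScalarTower R S L] [Module.Finite S (integralClosure S L)] :
    ∃ G : Finset L, (∀ y ∈ G, IsIntegral R y) ∧
      ∀ z : L, IsIntegral R z → ∃ t ∈ M, t • z ∈ Submodule.span R (G : Set L) := by
  classical
  obtain ⟨n, v, hv⟩ := Module.Finite.exists_fin (R := S) (M := integralClosure S L)
  have hscale : ∀ i, ∃ t ∈ M, IsIntegral R (t • (v i : L)) := fun i => by
    obtain ⟨⟨t, ht⟩, h⟩ := IsIntegral.exists_multiple_integral_of_isLocalization M _ (v i).2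
    exact ⟨t, ht, h⟩
  choose t ht htv using hscale
  refine ⟨Finset.univ.image fun i => t i • (v i : L), fun y hy => ?_, fun z hz => ?_⟩
  · obtain ⟨i, -, rfl⟩ := Finset.mem_image.mp hy
    exact htv i
  obtain ⟨c, hc⟩ := (Submodule.mem_span_range_iff_exists_fun S).mp
    (hv.symm ▸ Submodule.mem_top : (⟨z, hz.tower_top⟩ : integralClosure S L) ∈
      Submodule.span S (Set.range v))
  obtain ⟨d, hd⟩ := IsLocalization.exist_integer_multiples M Finset.univ c
  choose e he using fun i => hd i (Finset.mem_univ i)
  refine ⟨(d : R) * ∏ i, t i, mul_mem d.2 (prod_mem fun i _ => ht i), ?_⟩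
  have hz' : z = ∑ i, c i • (v i : L) := by
    have := congrArg Subtype.val hc
    simpa using this.symm
  rw [hz', Finset.smul_sum]
  refine sum_mem fun i _ => ?_
  have : ((d : R) * ∏ j, t j) • (c i • (v i : L)) =
      (e i * ∏ j ∈ Finset.univ.erase i, t j) • (t i • (v i : L)) := by
    rw [smul_smul, mul_assoc, Finset.prod_erase_mul _ _ (Finset.mem_univ i), mul_comm (d : R),
      mul_comm (e i), mul_smul, mul_smul, ← smul_assoc (d : R) (c i), ← he i, algebraMap_smul]
  rw [this]
  exact Submodule.smul_mem _ _ (Submodule.subset_span (by simp))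

/-- An analytically unramified local domain, relative to a finite extension. -/
theorem finite_integralClosure_of_reduced_completion {A K' : Type u} [CommRing A] [IsDomain A]
    [IsLocalRing A] [IsNoetherianRing A] [Field K'] [Algebra A K'] [Algebra (FractionRing A) K']
    [IsScalarTower A (FractionRing A) K'] [FiniteDimensional (FractionRing A) K']
    (hred : IsReduced (AdicCompletion (maximalIdeal A) A ⊗[A] K')) :
    Module.Finite A (integralClosure A K') := by
  have := isNoetherianRing_completion A
  have : Module.FaithfullyFlat A (AdicCompletion (maximalIdeal A) A) :=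
    Module.FaithfullyFlat.of_flat_of_isLocalHom
  exact finite_integralClosure_of_reduced
    (fun q _ _ => (isNagata_of_complete (AdicCompletion (maximalIdeal A) A)).2 q) hred

/-- A Noetherian local ring with geometrically reduced formal fibres, at a prime. -/
theorem isN2_quotient_of_geomReduced {A : Type u} [CommRing A] [IsLocalRing A] [IsNoetherianRing A]
    (p : Ideal A) [p.IsPrime]
    [hp : Algebra.IsGeometricallyReduced p.ResidueField
      (p.Fiber (AdicCompletion (maximalIdeal A) A))] :
    CAlg.IsN2 (A ⧸ p) := by
  intro L _ _ _ _ hL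
  let Ah := AdicCompletion (maximalIdeal A) A
  let B := (A ⧸ p) ⊗[A] Ah
  have := isNoetherianRing_completion A
  have hFF : Module.FaithfullyFlat A Ah := Module.FaithfullyFlat.of_flat_of_isLocalHom
  have hsurj : Function.Surjective (Algebra.TensorProduct.includeRight : Ah →ₐ[A] B) :=
    Algebra.TensorProduct.includeRight_surjective Ah Ideal.Quotient.mk_surjective
  have : IsNoetherianRing B :=
    isNoetherianRing_of_surjective Ah B Algebra.TensorProduct.includeRight.toRingHom hsurj
  have hJ : ∀ (q : Ideal B) [q.IsPrime], q ∈ minimalPrimes B → CAlg.IsN2 (B ⧸ q) := by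
    intro q _ _
    let φ : Ah →+* B ⧸ q :=
      (Ideal.Quotient.mk q).comp Algebra.TensorProduct.includeRight.toRingHom
    have hφ : Function.Surjective φ := Ideal.Quotient.mk_surjective.comp hsurj
    have : (RingHom.ker φ).IsPrime := RingHom.ker_isPrime φ
    exact NagataLib.isN2_of_ringEquiv (RingHom.quotientKerEquivOfSurjective hφ)
      ((isNagata_of_complete Ah).2 (RingHom.ker φ))
  let : Algebra A L := ((algebraMap (A ⧸ p) L).comp (algebraMap A (A ⧸ p))).toAlgebra
  have : IsScalarTower A (A ⧸ p) L := .of_algebraMap_eq fun _ => rfl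
  have hinj : Function.Injective (algebraMap (A ⧸ p) L) := by
    rw [IsScalarTower.algebraMap_eq (A ⧸ p) (FractionRing (A ⧸ p)) L]
    exact (algebraMap (FractionRing (A ⧸ p)) L).injective.comp (IsFractionRing.injective _ _)
  let : Algebra p.ResidueField L :=
    (IsFractionRing.lift (A := A ⧸ p) (K := p.ResidueField) hinj).toAlgebra
  have : IsScalarTower A p.ResidueField L := .of_algebraMap_eq fun a => by
    rw [RingHom.algebraMap_toAlgebra (IsFractionRing.lift hinj),
      IsScalarTower.algebraMap_apply A (A ⧸ p) p.ResidueField, IsFractionRing.lift_algebraMap]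
    rfl
  have : IsScalarTower (A ⧸ p) p.ResidueField L := .of_algebraMap_eq fun a =>
    (IsFractionRing.lift_algebraMap hinj a).symm
  have : FiniteDimensional p.ResidueField L := by
    refine Module.Finite.of_equiv_equiv (A₁ := FractionRing (A ⧸ p)) (B₁ := L)
      (FractionRing.algEquiv (A ⧸ p) p.ResidueField).toRingEquiv (RingEquiv.refl L) ?_
    refine IsLocalization.ringHom_ext (nonZeroDivisors (A ⧸ p)) ?_
    ext a
    simp [← IsScalarTower.algebraMap_apply]
    rfl
  have hred : IsReduced (L ⊗[p.ResidueField] (p.ResidueField ⊗[A] Ah)) :=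
    haveI : Algebra.IsGeometricallyReduced p.ResidueField (p.ResidueField ⊗[A] Ah) := hp
    inferInstance
  have h1 : IsReduced (L ⊗[A] Ah) :=
    isReduced_of_injective _
      (Algebra.TensorProduct.cancelBaseChange A p.ResidueField L L Ah).symm.injective
  have h2 : IsReduced (L ⊗[A ⧸ p] B) :=
    isReduced_of_injective _
      (Algebra.TensorProduct.cancelBaseChange A (A ⧸ p) L L Ah).injective
  have h3 : IsReduced (B ⊗[A ⧸ p] L) :=
    isReduced_of_injective _ (Algebra.TensorProduct.comm (A ⧸ p) B L).injective
  exact finite_integralClosure_of_reduced hJ h3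

end Groth.Agent.CohenStruct
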