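import Mathlib
import Groth.Prelude.Def_Found
import Groth.Prelude.Def_EGA4b
import Groth.Agent.CohenStruct.Local
import Groth.Agent.DepthLib.RegularLocal
import Groth.Agent.DepthLib.RegularNormal
import Groth.Agent.NagataLib.Universal

/-!
# Quasi-excellent rings are Nagata
-/

universe u

open TensorProduct IsLocalRing

namespace Groth.Agent.CohenStruct

/-- Regular rings are reduced. -/
theorem isReduced_of_isRegularRing (S : Type u) [CommRing S] (h : IsRegularRing S) : IsReduced S := by
  refine isReduced_ofLocalizationMaximal S fun J hJ => ?_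
  have : IsRegularLocalRing (Localization.AtPrime J) := h.isRegularLocalRing_localization J
  have := DepthLib.isDomain_of_isRegularLocalRing (Localization.AtPrime J)
  infer_instance

theorem isGeometricallyReduced_of_isGeometricallyRegular {k S : Type u} [Field k] [CommRing S]
    [Algebra k S] (h : CAlg.IsGeometricallyRegular k S) : Algebra.IsGeometricallyReduced k S := by
  rw [Algebra.isGeometricallyReduced_field_iff]
  suffices hs : IsReduced (S ⊗[k] AlgebraicClosure k) from
    isReduced_of_injective _ (Algebra.TensorProduct.comm k (AlgebraicClosure k) S).injective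
  refine IsReduced.tensorProduct_of_flat_of_forall_fg fun D hD => ?_
  have : Algebra.IsIntegral k D :=
    ⟨fun x => by
      rw [← isIntegral_algHom_iff D.val Subtype.val_injective]
      exact Algebra.IsIntegral.isIntegral _⟩
  have hfield : IsField D :=
    isField_of_isIntegral_of_isField' (Field.toIsField k)
  let := hfield.toField
  have : Algebra.FiniteType k D := D.fg_iff_finiteType.mp hD
  have hfin : Module.Finite k D := Algebra.IsIntegral.finite
  have hred : IsReduced (D ⊗[k] S) := isReduced_of_isRegularRing _ (h D hfin)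
  exact isReduced_of_injective _ (Algebra.TensorProduct.comm k S D).injective

theorem hasGeomReducedFormalFibres_of_isRegularHom {A : Type u} [CommRing A] [IsLocalRing A]
    (h : CAlg.IsRegularHom A (AdicCompletion (maximalIdeal A) A)) :
    EGA4.HasGeomReducedFormalFibres A := fun p _ =>
  isGeometricallyReduced_of_isGeometricallyRegular (h.2 p).2

/-- A quotient domain of a Noetherian ring with Nagata local rings, J-2, is N-2. -/
theorem isN2_quotient_of_local {A : Type u} [CommRing A] [IsNoetherianRing A]
    (hloc : ∀ (m : Ideal A) [m.IsMaximal], CAlg.IsNagata (Localization.AtPrime m))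
    (hJ2 : EGA4.IsJ2 A) (p : Ideal A) [p.IsPrime] : CAlg.IsN2 (A ⧸ p) := by
  classical
  intro L _ _ _ _ hL
  let R := A ⧸ p
  let K := FractionRing R
  obtain ⟨s, b, hb⟩ := FiniteDimensional.exists_is_basis_integral R K L
  let B : Subalgebra R L := Algebra.adjoin R (Set.range b)
  have : Module.Finite R B := Module.Finite.iff_fg.mpr
    (fg_adjoin_of_finite (Set.finite_range b) (by rintro _ ⟨i, rfl⟩; exact hb i))
  have : IsNoetherianRing B := IsNoetherianRing.of_finite R B
  have hinjR : Function.Injective (algebraMap R L) := by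
    rw [IsScalarTower.algebraMap_eq R K L]
    exact (algebraMap K L).injective.comp (IsFractionRing.injective R K)
  have hfrac : IsFractionRing B L := by
    refine IsFractionRing.of_field B L fun z => ?_
    obtain ⟨d, hd⟩ := IsLocalization.exist_integer_multiples (nonZeroDivisors R) Finset.univ
      (fun i => b.repr z i)
    have hmem : (d : R) • z ∈ B := by
      rw [← b.sum_repr z, Finset.smul_sum]
      refine sum_mem fun i hi => ?_
      obtain ⟨e, he⟩ := hd i hi
      rw [← smul_assoc, ← he, algebraMap_smul]
      exact B.smul_mem (Algebra.subset_adjoin (Set.mem_range_self i)) e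
    refine ⟨⟨_, hmem⟩, algebraMap R B d, ?_⟩
    have hd0 : algebraMap R L d ≠ 0 :=
      (map_ne_zero_iff _ hinjR).mpr (nonZeroDivisors.coe_ne_zero d)
    change z = (d : R) • z / algebraMap R L d
    rw [Algebra.smul_def]
    field_simp
  -- generic regularity
  let : Algebra A B := ((algebraMap R B).comp (algebraMap A R)).toAlgebra
  have : IsScalarTower A R B := .of_algebraMap_eq fun _ => rfl
  have : Module.Finite A B := Module.Finite.trans R B
  have hopen := hJ2 B inferInstance
  let η : PrimeSpectrum B := ⟨⊥, Ideal.isPrime_bot⟩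
  have hη : η ∈ EGA4.regLocus B := by
    change IsRegularLocalRing (Localization.AtPrime (⊥ : Ideal B))
    have : IsFractionRing B (Localization.AtPrime (⊥ : Ideal B)) := by
      change IsLocalization (nonZeroDivisors B) (Localization.AtPrime (⊥ : Ideal B))
      rw [show nonZeroDivisors B = (⊥ : Ideal B).primeCompl from by
        ext x; simp [mem_nonZeroDivisors_iff_ne_zero]]
      infer_instance
    let := IsFractionRing.toField B (K := Localization.AtPrime (⊥ : Ideal B))
    infer_instance
  obtain ⟨_, ⟨f, rfl⟩, hfη, hfU⟩ :=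
    PrimeSpectrum.isTopologicalBasis_basic_opens.exists_subset_of_mem_open hη hopen
  have hf0 : f ≠ 0 := fun h => hfη (by rw [h]; exact zero_mem _)
  refine finite_integralClosure_of_local B f (fun h => hf0 (Subtype.ext h)) (fun z hz => ?_)
    fun m hm => ?_
  · let I : Ideal B := (1 : Submodule B L).comap (LinearMap.toSpanSingleton B L z)
    have hrad : f ∈ I.radical := by
      rw [Ideal.radical_eq_sInf, Ideal.mem_sInf]
      rintro Q ⟨hIQ, hQ⟩
      by_contra hfQ
      have hreg : IsRegularLocalRing (Localization.AtPrime Q) := hfU (a := (⟨Q, hQ⟩ : PrimeSpectrum B)) hfQ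
      have := DepthLib.isDomain_of_isRegularLocalRing (Localization.AtPrime Q)
      obtain ⟨t, htQ, htz⟩ :=
        (isIntegrallyClosed_localization_iff Q.primeCompl Q.primeCompl_le_nonZeroDivisors
          (Localization.AtPrime Q) L).mp
          (DepthLib.isIntegrallyClosed_of_isRegularLocalRing _) z hz.tower_top
      exact htQ (hIQ (by simpa [I] using htz))
    obtain ⟨k, hk⟩ := hrad
    refine ⟨k, ?_⟩
    obtain ⟨c, hc⟩ := Submodule.mem_one.mp (show (f ^ k) • z ∈ (1 : Submodule B L) by
      simpa [I] using hk)
    have : (f : L) ^ k * z = (c : L) := hc.symm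
    rw [this]
    exact c.2
  · let M : Ideal A := m.comap (Ideal.Quotient.mk p)
    have : M.IsMaximal := Ideal.comap_isMaximal_of_surjective _ Ideal.Quotient.mk_surjective
    let S := Localization.AtPrime m
    have hMm : m.primeCompl ≤ nonZeroDivisors R := m.primeCompl_le_nonZeroDivisors
    let φ : Localization.AtPrime M →+* S :=
      Localization.localRingHom M m (Ideal.Quotient.mk p) rfl
    have hS : CAlg.IsN2 S := by
      refine NagataLib.isN2_of_fractions φ (hloc M).2 ⊥ (fun x hx => ?_) fun y => ?_
      · rw [Submonoid.mem_bot.mp hx, map_one]; exact isUnit_one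
      obtain ⟨r, ⟨t, ht⟩, rfl⟩ := IsLocalization.exists_mk'_eq m.primeCompl y
      obtain ⟨r, rfl⟩ := Ideal.Quotient.mk_surjective r
      obtain ⟨t, rfl⟩ := Ideal.Quotient.mk_surjective t
      refine ⟨IsLocalization.mk' _ r (⟨t, ht⟩ : M.primeCompl), 1, Submonoid.one_mem _, ?_⟩
      rw [map_one, mul_one, Localization.localRingHom_mk']
    let : Algebra S K := (IsLocalization.lift (M := m.primeCompl)
      (fun y => IsLocalization.map_units K (⟨y, hMm y.2⟩ : nonZeroDivisors R))).toAlgebra
    have : IsScalarTower R S K := .of_algebraMap_eq fun r => (IsLocalization.lift_eq _ r).symm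
    have : IsFractionRing S K :=
      IsFractionRing.isFractionRing_of_isDomain_of_isLocalization m.primeCompl S K
    let : Algebra S L := ((algebraMap K L).comp (algebraMap S K)).toAlgebra
    have : IsScalarTower S K L := .of_algebraMap_eq fun _ => rfl
    have : IsScalarTower R S L := .of_algebraMap_eq fun r => by
      rw [IsScalarTower.algebraMap_apply R K L, IsScalarTower.algebraMap_apply R S K]
      rfl
    have : Module.Finite S (integralClosure S L) :=
      NagataLib.finite_integralClosure_of_isN2 hS K L
    exact exists_generators_localization m.primeCompl S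

/-- **Quasi-excellent rings are Nagata.** -/
theorem isNagata_of_isQuasiExcellent (A : Type u) [CommRing A] (hA : EGA4.IsQuasiExcellent A) :
    CAlg.IsNagata A := by
  have := hA.1
  refine ⟨hA.1, fun p _ => isN2_quotient_of_local (fun m _ => ⟨inferInstance, fun q _ => ?_⟩)
    hA.2.2 p⟩
  haveI := hasGeomReducedFormalFibres_of_isRegularHom (hA.2.1.2 m) q
  exact isN2_quotient_of_geomReduced q

/-- The integral closure of a Noetherian local domain in a finite extension is semilocal with
finite residue extensions. -/
theorem semilocal_integralClosure {A K' : Type u} [CommRing A] [IsDomain A] [IsLocalRing A]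
    [IsNoetherianRing A] [Field K'] [Algebra A K'] [Algebra (FractionRing A) K']
    [IsScalarTower A (FractionRing A) K'] [FiniteDimensional (FractionRing A) K'] :
    {m : Ideal (integralClosure A K') | m.IsMaximal}.Finite ∧
      ∀ (m : Ideal (integralClosure A K')), m.IsMaximal →
        Module.Finite A (integralClosure A K' ⧸ m) := by
  let Ah := AdicCompletion (maximalIdeal A) A
  have := isNoetherianRing_completion A
  obtain ⟨Cα, hP, hkey, -⟩ := Groth.Agent.S4614.result (A := A) (B := Ah) (K' := K')
    fun q _ _ => (isNagata_of_complete Ah).2 q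
  haveI := hP.1
  have hint : Cα ≤ integralClosure A K' := fun y hy =>
    (Algebra.IsIntegral.isIntegral (R := A) (⟨y, hy⟩ : Cα)).map Cα.val
  let ι := Subalgebra.inclusion hint
  have hres : ∀ x : integralClosure A K', ∃ c : Cα,
      ∀ m : Ideal (integralClosure A K'), m.IsMaximal → x - ι c ∈ m := by
    intro x
    have : Module.Finite A (Algebra.adjoin A ({(x : K')} : Set K')) :=
      Module.Finite.iff_fg.mpr x.2.fg_adjoin_singleton
    let C := Cα ⊔ Algebra.adjoin A ({(x : K')} : Set K')
    have hC : Module.Finite A C := Subalgebra.finite_sup _ _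
    have hle : Cα ≤ C := le_sup_left
    have hCi : C ≤ integralClosure A K' :=
      sup_le hint (Algebra.adjoin_le (Set.singleton_subset_iff.mpr x.2))
    let y : C := ⟨x, le_sup_right (a := Cα) (Algebra.self_mem_adjoin_singleton A (x : K'))⟩
    obtain ⟨-, h2⟩ := hkey C ⟨hC, fun w => by
      obtain ⟨a, b, hb, hab⟩ := hP.2 w
      exact ⟨⟨a, hle a.2⟩, ⟨b, hle b.2⟩, hb, hab⟩⟩ hle
    obtain ⟨z, hz⟩ := h2 (y ⊗ₜ 1)
    let e : Ah →ₐ[A] A ⧸ maximalIdeal A := AdicCompletion.evalOneₐ (maximalIdeal A)
    have hc : ∃ c : Cα, ∀ (m : Ideal (integralClosure A K')) (ψ : (A ⧸ maximalIdeal A) →ₐ[A]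
        integralClosure A K' ⧸ m),
        Algebra.TensorProduct.productMap
          ((Ideal.Quotient.mkₐ A m).comp (Subalgebra.inclusion hCi)) (ψ.comp e)
          (Algebra.TensorProduct.map (Subalgebra.inclusion hle) (AlgHom.id A Ah) z) =
        Ideal.Quotient.mk m (ι c) := by
      clear hz
      induction z using TensorProduct.induction_on with
      | zero => exact ⟨0, fun m ψ => by simp⟩
      | tmul c b =>
        obtain ⟨a, ha⟩ := Ideal.Quotient.mk_surjective (e b)
        refine ⟨a • c, fun m ψ => ?_⟩
        have hψ : ψ (Ideal.Quotient.mk (maximalIdeal A) a) = algebraMap A _ a := ψ.commutes a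
        simp only [Algebra.TensorProduct.map_tmul, AlgHom.coe_id, id_eq,
          Algebra.TensorProduct.productMap_apply_tmul, AlgHom.comp_apply, ← ha, hψ]
        rw [mul_comm, ← Algebra.smul_def, map_smul ι]
        exact (map_smul (Ideal.Quotient.mkₐ A m) a (ι c)).symm
      | add z₁ z₂ h₁ h₂ =>
        obtain ⟨c₁, hc₁⟩ := h₁
        obtain ⟨c₂, hc₂⟩ := h₂
        exact ⟨c₁ + c₂, fun m ψ => by rw [map_add, map_add, hc₁, hc₂, map_add, map_add]⟩
    obtain ⟨c, hc⟩ := hc
    refine ⟨c, fun m hm => ?_⟩
    have hmA : ∀ a ∈ maximalIdeal A, algebraMap A (integralClosure A K') a ∈ m := by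
      intro a ha
      haveI := hm
      have : Algebra.IsIntegral A (integralClosure A K') := IsIntegralClosure.isIntegral_algebra A K'
      have h1 : (m.comap (algebraMap A (integralClosure A K'))).IsMaximal :=
        Ideal.isMaximal_comap_of_isIntegral_of_isMaximal m
      rw [← IsLocalRing.eq_maximalIdeal h1] at ha
      exact ha
    let ψ : (A ⧸ maximalIdeal A) →ₐ[A] integralClosure A K' ⧸ m :=
      Ideal.Quotient.liftₐ _ (Algebra.ofId A _) fun a ha => Ideal.Quotient.eq_zero_iff_mem.mpr (hmA a ha)
    let H := Algebra.TensorProduct.productMap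
      ((Ideal.Quotient.mkₐ A m).comp (Subalgebra.inclusion hCi)) (ψ.comp e)
    letI := Ideal.Quotient.field m
    have h0 := (hz.map H).eq_zero
    rw [map_sub, hc m ψ, sub_eq_zero] at h0
    rw [← Ideal.Quotient.mk_eq_mk_iff_sub_mem, h0]
    change _ = (Ideal.Quotient.mkₐ A m) (Subalgebra.inclusion hCi y) * ψ (e 1)
    rw [map_one, map_one, mul_one]
    rfl
  refine ⟨?_, fun m hm => ?_⟩
  · have : IsNoetherianRing Cα := IsNoetherianRing.of_finite A Cα
    let T : Set (Ideal Cα) := {n | n ∈ ((maximalIdeal A).map (algebraMap A Cα)).minimalPrimes}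
    have hT : T.Finite := Ideal.finite_minimalPrimes_of_isNoetherianRing Cα _
    refine Set.Finite.of_finite_image (f := fun m => m.comap ι.toRingHom) (hT.subset ?_) ?_
    · rintro _ ⟨m, hm, rfl⟩
      haveI : m.IsMaximal := hm
      have : Algebra.IsIntegral A (integralClosure A K') := IsIntegralClosure.isIntegral_algebra A K'
      have h1 : ((m.comap ι.toRingHom).comap (algebraMap A Cα)) = maximalIdeal A := by
        rw [Ideal.comap_comap, AlgHom.toRingHom_eq_coe, AlgHom.comp_algebraMap]
        exact IsLocalRing.eq_maximalIdeal (Ideal.isMaximal_comap_of_isIntegral_of_isMaximal m)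
      refine ⟨⟨inferInstance, Ideal.map_le_iff_le_comap.mpr h1.ge⟩, fun n hn hle => ?_⟩
      haveI := hn.1
      have h2 : n.comap (algebraMap A Cα) = maximalIdeal A :=
        le_antisymm (IsLocalRing.le_maximalIdeal (Ideal.IsPrime.ne_top inferInstance))
          (Ideal.map_le_iff_le_comap.mp hn.2)
      have h3 : n.IsMaximal :=
        Ideal.isMaximal_of_isIntegral_of_isMaximal_comap n (h2 ▸ maximalIdeal.isMaximal A)
      exact (h3.eq_of_le (Ideal.IsPrime.ne_top inferInstance) hle).ge
    · intro m₁ hm₁ m₂ hm₂ heq
      have hsub : ∀ a b : Ideal (integralClosure A K'), a.IsMaximal → b.IsMaximal →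
          a.comap ι.toRingHom = b.comap ι.toRingHom → a ≤ b := by
        intro a b ha hb hab x hx
        obtain ⟨c, hc⟩ := hres x
        have h1 : c ∈ a.comap ι.toRingHom := by
          have := sub_mem hx (hc a ha)
          simpa using this
        rw [hab] at h1
        simpa using add_mem (hc b hb) (show ι c ∈ b from h1)
      exact le_antisymm (hsub _ _ hm₁ hm₂ heq) (hsub _ _ hm₂ hm₁ heq.symm)
  · refine Module.Finite.of_surjective ((Ideal.Quotient.mkₐ A m).comp ι).toLinearMap fun x => ?_
    obtain ⟨x, rfl⟩ := Ideal.Quotient.mk_surjective x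
    obtain ⟨c, hc⟩ := hres x
    exact ⟨c, (Ideal.Quotient.mk_eq_mk_iff_sub_mem _ _).mpr (by
      have := neg_mem (hc m hm); simpa using this)⟩

end Groth.Agent.CohenStruct
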